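import Mathlib
import Cfsg.Agent.Lib.BC78.Galois
import Cfsg.Agent.Lib.Characters.Basic

/-!
# The arithmetic–geometric mean argument for Galois-stable families of algebraic integers

A finite family of positive real algebraic integers which every Galois automorphism permutes
has sum at least its cardinality.
-/

namespace Cfsg.Agent.Lib.GaloisMean.Basic

open Cfsg.Agent.Lib.BC78.Galois

universe u

/-- A finite family of positive algebraic integers permuted by all Galois automorphisms has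
sum at least its cardinality. -/
theorem card_le_sum {ι : Type*} [Fintype ι] (x : ι → ℝ) (hint : ∀ i, IsIntegral ℤ (x i : ℂ))
    (hpos : ∀ i, 0 < x i)
    (hσ : ∀ σ : Alg ≃ₐ[ℚ] Alg, ∃ e : Equiv.Perm ι, ∀ i,
      ((σ ⟨(x i : ℂ), mem_alg_of_isIntegral (hint i)⟩ : Alg) : ℂ) = (x (e i) : ℂ)) :
    (Fintype.card ι : ℝ) ≤ ∑ i, x i := by
  classical
  have hz : IsIntegral ℤ (∏ i, (x i : ℂ)) := IsIntegral.prod _ fun i _ => hint i
  obtain ⟨m, hm⟩ := exists_int_of_fixed hz (by
    intro σ
    obtain ⟨e, he⟩ := hσ σ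
    have h1 : (⟨∏ i, (x i : ℂ), mem_alg_of_isIntegral hz⟩ : Alg) =
        ∏ i, (⟨(x i : ℂ), mem_alg_of_isIntegral (hint i)⟩ : Alg) := by
      apply Subtype.ext
      push_cast
      rfl
    rw [h1, map_prod]
    push_cast
    simp only [he]
    exact Equiv.prod_comp e (fun i => (x i : ℂ)))
  have hP : (0 : ℝ) < ∏ i, x i := Finset.prod_pos fun i _ => hpos i
  have hm' : (m : ℝ) = ∏ i, x i := by exact_mod_cast hm
  have h1 : (1 : ℝ) ≤ ∏ i, x i := by
    rw [← hm'] at hP ⊢
    have : (0 : ℤ) < m := by exact_mod_cast hP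
    exact_mod_cast this
  have h2 : (0 : ℝ) ≤ Real.log (∏ i, x i) := Real.log_nonneg h1
  rw [Real.log_prod (fun i _ => (hpos i).ne')] at h2
  have h3 := h2.trans (Finset.sum_le_sum fun i _ => Real.log_le_sub_one_of_pos (hpos i))
  rw [Finset.sum_sub_distrib, Finset.sum_const, nsmul_one, Finset.card_univ] at h3
  linarith

/-- A real positive character on a set closed under coprime powers has sum at least the
cardinality of the set. -/
theorem card_le_sum_char {G : Type u} [Group G] [Finite G] {χ : G → ℂ}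
    (hχ : Cfsg.IsCharacter G χ) (S : Finset G)
    (hS : ∀ g ∈ S, ∀ k : ℕ, k.Coprime (Nat.card G) → g ^ k ∈ S) (f : G → ℝ)
    (hf : ∀ g ∈ S, χ g = f g) (hpos : ∀ g ∈ S, 0 < f g) :
    (S.card : ℝ) ≤ ∑ g ∈ S, f g := by
  classical
  have hint : ∀ g : {g // g ∈ S}, IsIntegral ℤ (f g : ℂ) := fun g => by
    rw [← hf g g.2]; exact Cfsg.Agent.Lib.Characters.Basic.isIntegral_apply hχ _
  have h := card_le_sum (fun g : {g // g ∈ S} => f g) hint (fun g => hpos g g.2) (by
    intro σ
    obtain ⟨k, hk, hσ⟩ := exists_exponent_char (G := G) σ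
    let e : {g // g ∈ S} → {g // g ∈ S} := fun g => ⟨(g : G) ^ k, hS g g.2 k hk⟩
    have he : Function.Injective e := fun a b hab => Subtype.ext
      ((powCoprime (G := G) hk.symm).injective (congrArg Subtype.val hab))
    refine ⟨Equiv.ofBijective e (Finite.injective_iff_bijective.mp he), fun g => ?_⟩
    have hm := mem_alg_of_isIntegral (Cfsg.Agent.Lib.Characters.Basic.isIntegral_apply hχ (g : G))
    have h1 := hσ χ hχ g hm
    simp only [hf g g.2] at h1
    rw [h1]
    exact hf _ (hS g g.2 k hk))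
  rw [Fintype.card_coe, Finset.sum_coe_sort S f] at h
  exact h

/-- Coprime powers stay outside a subgroup. -/
theorem pow_notMem {G : Type u} [Group G] [Finite G] (H : Subgroup G) {g : G} (hg : g ∉ H)
    {k : ℕ} (hk : k.Coprime (Nat.card G)) : g ^ k ∉ H := by
  intro h
  apply hg
  have hc : k.Coprime (orderOf g) :=
    hk.coprime_dvd_right (orderOf_dvd_natCard g)
  obtain ⟨m, hm⟩ := exists_pow_eq_self_of_coprime hc
  rw [← hm]
  exact H.pow_mem h m

/-- A coprime power does not move a character value to zero. -/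
theorem char_pow_ne_zero {G : Type u} [Group G] [Finite G] {χ : G → ℂ}
    (hχ : Cfsg.IsCharacter G χ) {g : G} (hg : χ g ≠ 0) {k : ℕ} (hk : k.Coprime (Nat.card G)) :
    χ (g ^ k) ≠ 0 := by
  classical
  intro h
  let N := Nat.card G
  have hN : N ≠ 0 := Nat.card_pos.ne'
  haveI : NeZero N := ⟨hN⟩
  obtain ⟨n, ρ, rfl⟩ := hχ
  obtain ⟨ι, hι, b, ζ, hb, -, hchar⟩ :=
    Cfsg.Agent.Lib.Characters.Diag.exists_eigenbasis_card ρ g
  have h2 : ∀ i, (ρ (g ^ k)) (b i) = ζ i ^ k • b i := by
    intro i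
    rw [map_pow]
    clear hk h
    induction k with
    | zero => simp
    | succ k ih => rw [pow_succ, Module.End.mul_apply, (hb i).1, map_smul, ih, smul_smul, pow_succ']
  have h3 : ρ.character (g ^ k) = ∑ i, ζ i ^ k :=
    Cfsg.Agent.Lib.Characters.Diag.trace_eq_sum_eigenvalues b _ _ h2
  have hω := Complex.isPrimitiveRoot_exp N hN
  set ω := Complex.exp (2 * Real.pi * Complex.I / N)
  choose e _ he using fun i => hω.eq_pow_of_pow_eq_one (hb i).2
  let P : Polynomial ℚ := ∑ i, Polynomial.X ^ e i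
  have hk' : Polynomial.aeval (ω ^ k) P = 0 := by
    rw [← h, h3]
    simp only [P, map_sum, map_pow, Polynomial.aeval_X, ← he, ← pow_mul, mul_comm]
  have hmin : minpoly ℚ (ω ^ k) = minpoly ℚ ω := by
    rw [← Polynomial.cyclotomic_eq_minpoly_rat hω (Nat.pos_of_ne_zero hN),
      ← Polynomial.cyclotomic_eq_minpoly_rat (hω.pow_of_coprime k hk) (Nat.pos_of_ne_zero hN)]
  obtain ⟨R, hR⟩ := minpoly.dvd ℚ (ω ^ k) hk'
  apply hg
  rw [hchar]
  have : Polynomial.aeval ω P = 0 := by rw [hR, hmin, map_mul, minpoly.aeval, zero_mul]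
  simpa only [P, map_sum, map_pow, Polynomial.aeval_X, he] using this

end Cfsg.Agent.Lib.GaloisMean.Basic
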