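import Mathlib
import Cfsg.Agent.Lib.GaloisMean.Basic

/-!
# Knörr's positive definite form for an abelian group acting coprimely

For an abelian group `H` and a list `L` of subgroups of its dual we consider the weight
`weight L h`, a product of factors `1 + n` over the subgroups of order `n` not killing `h`.
For a Galois-coherent family of non-zero generalized characters `f t` of `H` whose subgroups
generate the dual, the sum over `t` of `|H|⁻¹ ∑ weight L h |f t h|²` is at least `|H|` times
the number of members.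
-/

namespace Cfsg.Agent.Lib.GaloisMean.AbelianForm

open scoped ComplexConjugate Pointwise
open Cfsg.Agent.Lib.BC78.Galois

universe u v

variable {H : Type u} [CommGroup H] [Finite H]

/-- The dual group. -/
abbrev Dual (H : Type u) [CommGroup H] : Type u := H →* ℂˣ

noncomputable instance dualFintype : Fintype (Dual H) :=
  have : Finite (H →* ℂˣ) := .of_equiv _ (CommGroup.monoidHom_mulEquiv_of_hasEnoughRootsOfUnity H ℂ).some.toEquiv.symm
  Fintype.ofFinite _

/-- The dual is commutative. -/
theorem dual_comm (a b : Dual H) : a * b = b * a := MonoidHom.ext fun h => mul_comm (a h) (b h)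

theorem card_dual : Fintype.card (Dual H) = Nat.card H := by
  rw [← Nat.card_eq_fintype_card]
  exact CommGroup.card_monoidHom_of_hasEnoughRootsOfUnity H ℂ

theorem conj_dual (a : Dual H) (h : H) : conj ((a h : ℂˣ) : ℂ) = ((a⁻¹ : Dual H) h : ℂˣ) := by
  have h1 : ((a h : ℂˣ) : ℂ) ^ Nat.card H = 1 := by
    rw [← Units.val_pow_eq_pow_val, ← map_pow, pow_card_eq_one', map_one, Units.val_one]
  rw [← Complex.inv_eq_conj (Complex.norm_eq_one_of_pow_eq_one h1 Nat.card_pos.ne')]
  simp

/-- Orthogonality in the dual. -/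
theorem sum_dual [DecidableEq H] (h : H) :
    ∑ a : Dual H, ((a h : ℂˣ) : ℂ) = if h = 1 then (Nat.card H : ℂ) else 0 := by
  split_ifs with h1
  · subst h1
    simp [card_dual]
  · obtain ⟨b, hb⟩ := CommGroup.exists_apply_ne_one_of_hasEnoughRootsOfUnity H ℂ h1
    have h2 : ∑ a : Dual H, ((a h : ℂˣ) : ℂ) = (b h : ℂˣ) * ∑ a : Dual H, ((a h : ℂˣ) : ℂ) := by
      rw [Finset.mul_sum]
      exact (Fintype.sum_equiv (Equiv.mulLeft b) _ _ (fun a => by simp)).symm
    by_contra hne
    exact hb (Units.ext (mul_right_cancel₀ hne (h2.symm.trans (one_mul _).symm)))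

noncomputable instance dualDecEq : DecidableEq (Dual H) := Classical.decEq _

variable [Fintype H]

/-- Fourier coefficient. -/
noncomputable def coeff (f : H → ℂ) (a : Dual H) : ℂ :=
  (Nat.card H : ℂ)⁻¹ * ∑ h : H, f h * conj ((a h : ℂˣ) : ℂ)

theorem coeff_sub (f g : H → ℂ) (a : Dual H) : coeff (f - g) a = coeff f a - coeff g a := by
  simp only [coeff, Pi.sub_apply, sub_mul, Finset.sum_sub_distrib, mul_sub]

/-- Multiplication by a linear character. -/
noncomputable def twist (l : Dual H) (f : H → ℂ) : H → ℂ := fun h => f h * ((l h : ℂˣ) : ℂ)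

theorem coeff_twist (l : Dual H) (f : H → ℂ) (a : Dual H) :
    coeff (twist l f) a = coeff f (a * l⁻¹) := by
  simp only [coeff, twist]
  congr 1
  refine Finset.sum_congr rfl fun h _ => ?_
  rw [conj_dual, conj_dual]
  simp [mul_comm, mul_assoc, mul_left_comm]

open Classical in
theorem parseval (f : H → ℂ) :
    ∑ a : Dual H, Complex.normSq (coeff f a) =
      (Nat.card H : ℝ)⁻¹ * ∑ h : H, Complex.normSq (f h) := by
  have key : (∑ a : Dual H, coeff f a * conj (coeff f a) : ℂ) =
      (Nat.card H : ℂ)⁻¹ * ∑ h : H, f h * conj (f h) := by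
    have h1 : ∀ a : Dual H, coeff f a * conj (coeff f a) =
        (Nat.card H : ℂ)⁻¹ * (Nat.card H : ℂ)⁻¹ *
          ∑ x : H, ∑ y : H, f x * conj (f y) * ((a (x⁻¹ * y) : ℂˣ) : ℂ) := by
      intro a
      simp only [coeff, map_mul, map_inv₀, map_natCast, map_sum, Complex.conj_conj]
      rw [mul_mul_mul_comm, Finset.sum_mul_sum]
      congr 1
      refine Finset.sum_congr rfl fun x _ => Finset.sum_congr rfl fun y _ => ?_
      simp only [conj_dual, map_mul, map_inv, MonoidHom.inv_apply, Units.val_mul,
        Units.val_inv_eq_inv_val, map_inv₀, inv_inv]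
      ring
    rw [Finset.sum_congr rfl fun a _ => h1 a, ← Finset.mul_sum, Finset.sum_comm]
    simp only [Finset.sum_comm (s := (Finset.univ : Finset (Dual H))), ← Finset.mul_sum, sum_dual,
      inv_mul_eq_one, mul_ite, mul_zero, Finset.sum_ite_eq, Finset.mem_univ, if_true]
    rw [Finset.mul_sum, Finset.mul_sum]
    refine Finset.sum_congr rfl fun x _ => ?_
    have : (Nat.card H : ℂ) ≠ 0 := Nat.cast_ne_zero.mpr Nat.card_pos.ne'
    field_simp
  simp only [Complex.mul_conj] at key
  exact Complex.ofReal_injective (by push_cast; exact key)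

/-- The factor of a subgroup of the dual at a group element. -/
noncomputable def fac (Λ : Subgroup (Dual H)) [Fintype Λ] (h : H) : ℝ :=
  1 + 2⁻¹ * ∑ l : Λ, Complex.normSq (1 - (((l : Dual H) h : ℂˣ) : ℂ))

open Classical in
theorem fac_eq (Λ : Subgroup (Dual H)) (h : H) :
    fac Λ h = if ∀ l ∈ Λ, l h = 1 then 1 else 1 + (Nat.card Λ : ℝ) := by
  unfold fac
  split_ifs with h1
  · simp [fun l : Λ => h1 l l.2]
  · have hz : (∑ l : Λ, (((l : Dual H) h : ℂˣ) : ℂ)) = 0 := by
      push Not at h1
      obtain ⟨b, hb, hb1⟩ := h1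
      have h2 : ∑ l : Λ, (((l : Dual H) h : ℂˣ) : ℂ) =
          (b h : ℂˣ) * ∑ l : Λ, (((l : Dual H) h : ℂˣ) : ℂ) := by
        rw [Finset.mul_sum]
        exact (Fintype.sum_equiv (Equiv.mulLeft (⟨b, hb⟩ : Λ)) _ _ (fun a => by simp)).symm
      by_contra hne
      exact hb1 (Units.ext (mul_right_cancel₀ hne (h2.symm.trans (one_mul _).symm)))
    have hexp : ∀ l : Λ, Complex.normSq (1 - (((l : Dual H) h : ℂˣ) : ℂ)) =
        2 - 2 * (((l : Dual H) h : ℂˣ) : ℂ).re := by
      intro l
      have hn : Complex.normSq (((l : Dual H) h : ℂˣ) : ℂ) = 1 := by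
        rw [Complex.normSq_eq_norm_sq, Complex.norm_eq_one_of_pow_eq_one (n := Nat.card H) ?_
          Nat.card_pos.ne', one_pow]
        rw [← Units.val_pow_eq_pow_val, ← map_pow, pow_card_eq_one', map_one, Units.val_one]
      rw [Complex.normSq_sub, map_one, hn]
      simp
      ring
    have hre : ∑ l : Λ, (((l : Dual H) h : ℂˣ) : ℂ).re = 0 := by
      rw [← Complex.re_sum, hz, Complex.zero_re]
    simp only [hexp, Finset.sum_sub_distrib, Finset.sum_const, ← Finset.mul_sum, hre, mul_zero,
      sub_zero, nsmul_eq_mul, Finset.card_univ, ← Nat.card_eq_fintype_card]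
    ring

open Classical in
/-- The weight of a list of subgroups. -/
noncomputable def weight : List (Subgroup (Dual H)) → H → ℝ
  | [], _ => 1
  | Λ :: L, h => fac Λ h * weight L h

theorem weight_nonneg (L : List (Subgroup (Dual H))) (h : H) : 0 ≤ weight L h := by
  induction L with
  | nil => simp [weight]
  | cons Λ L ih =>
    refine mul_nonneg ?_ ih
    exact add_nonneg zero_le_one
      (mul_nonneg (by norm_num) (Finset.sum_nonneg fun _ _ => Complex.normSq_nonneg _))

/-- The quadratic form. -/
noncomputable def form (L : List (Subgroup (Dual H))) (f : H → ℂ) : ℝ :=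
  (Nat.card H : ℝ)⁻¹ * ∑ h : H, weight L h * Complex.normSq (f h)

open Classical in
theorem form_cons (Λ : Subgroup (Dual H)) (L : List (Subgroup (Dual H))) (f : H → ℂ) :
    form (Λ :: L) f = form L f + 2⁻¹ * ∑ l : Λ, form L (f - twist l f) := by
  unfold form
  have h1 : ∀ (h : H) (l : Λ), Complex.normSq ((f - twist (l : Dual H) f) h) =
      Complex.normSq (1 - (((l : Dual H) h : ℂˣ) : ℂ)) * Complex.normSq (f h) := by
    intro h l
    rw [← Complex.normSq_mul]
    congr 1
    simp [twist]; ring
  simp only [h1, ← Finset.mul_sum]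
  rw [Finset.sum_comm, mul_left_comm (2⁻¹ : ℝ), ← mul_add]
  congr 1
  rw [Finset.mul_sum, ← Finset.sum_add_distrib]
  refine Finset.sum_congr rfl fun h _ => ?_
  simp only [weight, fac, ← Finset.mul_sum, ← Finset.sum_mul]
  ring

/-- The saturation of a set by a list of subgroups. -/
noncomputable def sat : List (Subgroup (Dual H)) → Finset (Dual H) → Finset (Dual H)
  | [], S => S
  | Λ :: L, S => sat L S * (Set.toFinite (Λ : Set (Dual H))).toFinset

theorem sat_eq (L : List (Subgroup (Dual H))) (S : Finset (Dual H)) :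
    sat L S = S * sat L 1 := by
  induction L generalizing S with
  | nil => exact (mul_one S).symm
  | cons Λ L ih => simp only [sat]; rw [ih S]; exact mul_assoc (G := Finset (Dual H)) _ _ _

theorem subgroup_le_sat (L : List (Subgroup (Dual H))) :
    ∀ a ∈ L.foldr (· ⊔ ·) ⊥, a ∈ sat L 1 := by
  classical
  induction L with
  | nil => intro a ha; simpa [sat] using ha
  | cons Λ L ih =>
    intro a ha
    rw [List.foldr_cons, Subgroup.mem_sup] at ha
    obtain ⟨y, hy, z, hz, rfl⟩ := ha
    simp only [sat]
    rw [mul_comm y z]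
    exact Finset.mul_mem_mul (ih z hz) ((Set.Finite.mem_toFinset _).mpr hy)

open Classical in
/-- The support of the Fourier transform. -/
noncomputable def supp (f : H → ℂ) : Finset (Dual H) :=
  Finset.univ.filter (fun a => coeff f a ≠ 0)

variable {T : Type v} [Fintype T]

/-- A family of functions on `H` with integral Fourier coefficients which are permuted by
every Galois automorphism through a permutation of the index set. -/
def Coherent (f : T → H → ℂ) : Prop :=
  (∀ t a, IsIntegral ℤ (coeff (f t) a)) ∧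
  ∀ σ : Alg ≃ₐ[ℚ] Alg, ∃ e : Equiv.Perm T, ∀ t a (hm : coeff (f t) a ∈ Alg),
    ((σ ⟨coeff (f t) a, hm⟩ : Alg) : ℂ) = coeff (f (e t)) a ∧
      ∀ hm' : conj (coeff (f t) a) ∈ Alg,
        ((σ ⟨conj (coeff (f t) a), hm'⟩ : Alg) : ℂ) = conj (coeff (f (e t)) a)

theorem coherent_sub_twist {f : T → H → ℂ} (hf : Coherent f) (l : Dual H) :
    Coherent (fun t => f t - twist l (f t)) := by
  refine ⟨fun t a => ?_, fun σ => ?_⟩
  · rw [coeff_sub, coeff_twist]
    exact (hf.1 t a).sub (hf.1 t _)
  · obtain ⟨e, he⟩ := hf.2 σ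
    refine ⟨e, fun t a hm => ?_⟩
    have m1 := mem_alg_of_isIntegral (hf.1 t a)
    have m2 := mem_alg_of_isIntegral (hf.1 t (a * l⁻¹))
    have h1 : (⟨coeff (f t - twist l (f t)) a, hm⟩ : Alg) = ⟨_, m1⟩ - ⟨_, m2⟩ := by
      apply Subtype.ext
      push_cast
      rw [coeff_sub, coeff_twist]
    refine ⟨?_, fun hm' => ?_⟩
    · rw [h1, map_sub, coeff_sub, coeff_twist]
      push_cast
      rw [(he t a m1).1, (he t _ m2).1]
    · have c1 := mem_alg_of_isIntegral
        ((hf.1 t a).map (Complex.conjAe.toAlgHom.restrictScalars ℤ))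
      have c2 := mem_alg_of_isIntegral
        ((hf.1 t (a * l⁻¹)).map (Complex.conjAe.toAlgHom.restrictScalars ℤ))
      have h2 : (⟨conj (coeff (f t - twist l (f t)) a), hm'⟩ : Alg) =
          ⟨conj (coeff (f t) a), c1⟩ - ⟨conj (coeff (f t) (a * l⁻¹)), c2⟩ := by
        apply Subtype.ext
        push_cast
        rw [coeff_sub, coeff_twist, map_sub]
      rw [h2, map_sub, coeff_sub, coeff_twist, map_sub]
      push_cast
      rw [(he t a m1).2 c1, (he t _ m2).2 c2]

theorem card_supp_le {f : T → H → ℂ} (hf : Coherent f) :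
    (∑ t, ((supp (f t)).card : ℝ)) ≤ ∑ t, form [] (f t) := by
  classical
  have h1 : ∀ t, form [] (f t) = ∑ a, Complex.normSq (coeff (f t) a) := by
    intro t
    rw [parseval]
    simp [form, weight]
  simp only [h1, supp, Finset.natCast_card_filter]
  rw [Finset.sum_comm, Finset.sum_comm (γ := T)]
  refine Finset.sum_le_sum fun a _ => ?_
  rw [← Finset.natCast_card_filter]
  let S := Finset.univ.filter (fun t => coeff (f t) a ≠ 0)
  have hint : ∀ t : S, IsIntegral ℤ ((Complex.normSq (coeff (f t) a) : ℝ) : ℂ) := by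
    intro t
    rw [← Complex.mul_conj]
    exact (hf.1 _ a).mul ((hf.1 _ a).map (Complex.conjAe.toAlgHom.restrictScalars ℤ))
  have h2 := Cfsg.Agent.Lib.GaloisMean.Basic.card_le_sum
    (fun t : S => Complex.normSq (coeff (f t) a)) hint
    (fun t => Complex.normSq_pos.mpr (Finset.mem_filter.mp t.2).2) (by
    intro σ
    obtain ⟨e, he⟩ := hf.2 σ
    have hmaps : ∀ t : T, t ∈ S → e t ∈ S := by
      intro t ht
      refine Finset.mem_filter.mpr ⟨Finset.mem_univ _, fun h0 => (Finset.mem_filter.mp ht).2 ?_⟩
      have hh := he t a (mem_alg_of_isIntegral (hf.1 t a))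
      have hh := hh.1
      rw [h0, ZeroMemClass.coe_eq_zero, map_eq_zero_iff σ σ.injective] at hh
      exact congrArg Subtype.val hh
    let e' : S → S := fun t => ⟨e t, hmaps t t.2⟩
    have he' : Function.Injective e' := fun x y hxy =>
      Subtype.ext (e.injective (congrArg Subtype.val hxy))
    refine ⟨Equiv.ofBijective e' (Finite.injective_iff_bijective.mp he'), fun t => ?_⟩
    have m1 := mem_alg_of_isIntegral (hf.1 t a)
    have c1 := mem_alg_of_isIntegral ((hf.1 t a).map (Complex.conjAe.toAlgHom.restrictScalars ℤ))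
    have h3 : (⟨((Complex.normSq (coeff (f t) a) : ℝ) : ℂ), mem_alg_of_isIntegral (hint t)⟩ : Alg) =
        ⟨_, m1⟩ * ⟨conj (coeff (f t) a), c1⟩ := by
      apply Subtype.ext
      push_cast
      rw [Complex.mul_conj]
    rw [h3, map_mul]
    push_cast
    rw [(he t a m1).1, (he t a m1).2 c1, Complex.mul_conj]
    rfl)
  rw [Fintype.card_coe, Finset.sum_coe_sort S (fun t => Complex.normSq (coeff (f t) a))] at h2
  exact h2.trans (Finset.sum_le_sum_of_subset_of_nonneg (Finset.subset_univ _)
    (fun _ _ _ => Complex.normSq_nonneg _))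

open Classical in
theorem main_ineq (L : List (Subgroup (Dual H))) : ∀ {f : T → H → ℂ}, Coherent f →
    (∑ t, ((sat L (supp (f t))).card : ℝ)) ≤ ∑ t, form L (f t) := by
  induction L with
  | nil => intro f hf; exact card_supp_le hf
  | cons Λ L ih =>
    intro f hf
    simp only [form_cons, Finset.sum_add_distrib]
    rw [← Finset.mul_sum, Finset.sum_comm]
    refine le_trans ?_ (add_le_add (ih hf) (mul_le_mul_of_nonneg_left
      (Finset.sum_le_sum fun l _ => ih (coherent_sub_twist hf (l : Dual H)))
      (by norm_num : (0 : ℝ) ≤ 2⁻¹)))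
    rw [Finset.sum_comm, Finset.mul_sum, ← Finset.sum_add_distrib]
    refine Finset.sum_le_sum fun t _ => ?_
    set S := sat L (supp (f t)) with hS
    let F : Λ → Finset (Dual H) := fun l =>
      (S * {(l : Dual H)}) \ S
    -- the symmetric difference lies in the saturated support of the difference
    have hsub : ∀ l : Λ, (S \ (S * {(l : Dual H)})) ∪ F l ⊆ sat L (supp (f t - twist l (f t))) := by
      intro l x hx
      rw [sat_eq, Finset.mem_mul]
      simp only [F, Finset.mem_union, Finset.mem_sdiff] at hx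
      rw [hS, sat_eq] at hx
      simp only [Finset.mem_mul, Finset.mem_singleton] at hx
      rcases hx with ⟨⟨s, hs, b, hb, rfl⟩, hnot⟩ | ⟨⟨_, ⟨s, hs, b, hb, rfl⟩, _, rfl, rfl⟩, hnot⟩
      · refine ⟨s, ?_, b, hb, rfl⟩
        simp only [supp, Finset.mem_filter, Finset.mem_univ, true_and] at hs ⊢
        rw [coeff_sub, coeff_twist]
        have h0 : coeff (f t) (s * (l : Dual H)⁻¹) = 0 := by
          by_contra hne
          refine hnot ⟨_, ⟨s * (l : Dual H)⁻¹, ?_, b, hb, rfl⟩, _, rfl, ?_⟩
          · simpa [supp] using hne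
          · rw [mul_right_comm (G := Dual H), inv_mul_cancel_right (G := Dual H)]
        rwa [h0, sub_zero]
      · refine ⟨s * (l : Dual H), ?_, b, hb, mul_right_comm (G := Dual H) _ _ _⟩
        simp only [supp, Finset.mem_filter, Finset.mem_univ, true_and] at hs ⊢
        rw [coeff_sub, coeff_twist, mul_inv_cancel_right (G := Dual H)]
        have h0 : coeff (f t) (s * (l : Dual H)) = 0 := by
          by_contra hne
          refine hnot ⟨s * (l : Dual H), ?_, b, hb, mul_right_comm (G := Dual H) _ _ _⟩
          simpa [supp] using hne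
        rwa [h0, zero_sub, neg_ne_zero]
    have hcard : ∀ l : Λ, 2 * (F l).card ≤ (sat L (supp (f t - twist l (f t)))).card := by
      intro l
      refine le_trans (le_of_eq ?_) (Finset.card_le_card (hsub l))
      rw [Finset.card_union_of_disjoint]
      · have h1 : (S * {(l : Dual H)}).card = S.card := by
          rw [Finset.mul_singleton]
          exact Finset.card_image_of_injective _ (mul_left_injective _)
        have := Finset.card_sdiff_comm h1
        simp only [F]
        omega
      · exact disjoint_sdiff_sdiff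
    have hcov : sat (Λ :: L) (supp (f t)) ⊆ S ∪ Finset.univ.biUnion F := by
      intro x hx
      simp only [sat, Finset.mem_mul, Set.Finite.mem_toFinset, SetLike.mem_coe] at hx
      obtain ⟨s, hs, l, hl, rfl⟩ := hx
      by_cases hx' : s * l ∈ S
      · exact Finset.mem_union_left _ hx'
      · refine Finset.mem_union_right _ (Finset.mem_biUnion.mpr ⟨⟨l, hl⟩, Finset.mem_univ _, ?_⟩)
        exact Finset.mem_sdiff.mpr ⟨Finset.mul_mem_mul hs (Finset.mem_singleton_self _), hx'⟩
    have h3 : (sat (Λ :: L) (supp (f t))).card ≤ S.card + ∑ l : Λ, (F l).card :=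
      (Finset.card_le_card hcov).trans ((Finset.card_union_le _ _).trans
        (Nat.add_le_add_left Finset.card_biUnion_le _))
    have h4 : ((2 * ∑ l : Λ, (F l).card : ℕ) : ℝ) ≤
        ∑ l : Λ, ((sat L (supp (f t - twist l (f t)))).card : ℝ) := by
      rw [← Nat.cast_sum, Finset.mul_sum]
      exact Nat.cast_le.mpr (Finset.sum_le_sum fun l _ => hcard l)
    have h5 : ((sat (Λ :: L) (supp (f t))).card : ℝ) ≤ S.card + ((∑ l : Λ, (F l).card : ℕ) : ℝ) := by
      exact_mod_cast h3
    push_cast at h4 h5 ⊢
    linarith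

/-- If the subgroups generate the dual, every non-zero member contributes at least `|H|`. -/
theorem card_mul_le_sum_form (L : List (Subgroup (Dual H))) (hL : L.foldr (· ⊔ ·) ⊥ = ⊤)
    {f : T → H → ℂ} (hf : Coherent f) (hne : ∀ t, supp (f t) ≠ ∅) :
    (Fintype.card T : ℝ) * Nat.card H ≤ ∑ t, form L (f t) := by
  classical
  refine le_trans (le_of_eq ?_) (main_ineq L hf)
  have h1 : ∀ t, sat L (supp (f t)) = Finset.univ := by
    intro t
    obtain ⟨s, hs⟩ := Finset.nonempty_iff_ne_empty.mpr (hne t)
    rw [Finset.eq_univ_iff_forall]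
    intro a
    rw [sat_eq, Finset.mem_mul]
    exact ⟨s, hs, s⁻¹ * a, subgroup_le_sat L _ (hL ▸ Subgroup.mem_top _), mul_inv_cancel_left (G := Dual H) _ _⟩
  simp [h1, card_dual]

end Cfsg.Agent.Lib.GaloisMean.AbelianForm
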