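import Cfsg.Agent.Lib.GaloisMean.AbelianForm

/-!
# The chain weight of an abelian group acting faithfully and coprimely on an abelian group
-/

namespace Cfsg.Agent.Lib.GaloisMean.CoprimeChain

open Cfsg.Agent.Lib.GaloisMean.AbelianForm

universe u v

open scoped Classical in
attribute [local instance] Fintype.ofFinite

variable {H : Type u} [CommGroup H] [Finite H]

/-- The annihilator of a subgroup in the dual. -/
def ann (K : Subgroup H) : Subgroup (Dual H) where
  carrier := {a | ∀ h ∈ K, a h = 1}
  mul_mem' := fun ha hb h hh => by rw [MonoidHom.mul_apply, ha h hh, hb h hh, mul_one]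
  one_mem' := fun h _ => rfl
  inv_mem' := fun ha h hh => by rw [MonoidHom.inv_apply, ha h hh, inv_one]

theorem card_ann (K : Subgroup H) : Nat.card (ann K) = K.index := by
  rw [Subgroup.index, ← CommGroup.card_monoidHom_of_hasEnoughRootsOfUnity (H ⧸ K) ℂ]
  exact Nat.card_congr
    { toFun := fun a => QuotientGroup.lift K a.1 (fun h hh => a.2 h hh)
      invFun := fun b => ⟨b.comp (QuotientGroup.mk' K), fun h hh => by
        rw [MonoidHom.comp_apply, QuotientGroup.mk'_apply, (QuotientGroup.eq_one_iff h).mpr hh,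
          map_one]⟩
      left_inv := fun a => Subtype.ext (MonoidHom.ext fun h => rfl)
      right_inv := fun b => QuotientGroup.monoidHom_ext K (MonoidHom.ext fun h => rfl) }

theorem mem_of_forall_ann (K : Subgroup H) {h : H} (hh : ∀ a ∈ ann K, a h = 1) : h ∈ K := by
  by_contra hn
  obtain ⟨b, hb⟩ := CommGroup.exists_apply_ne_one_of_hasEnoughRootsOfUnity (H ⧸ K) ℂ
    (fun e => hn ((QuotientGroup.eq_one_iff h).mp e) : (QuotientGroup.mk h : H ⧸ K) ≠ 1)
  refine hb (hh (b.comp (QuotientGroup.mk' K)) fun k hk => ?_)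
  rw [MonoidHom.comp_apply, QuotientGroup.mk'_apply, (QuotientGroup.eq_one_iff k).mpr hk, map_one]

/-- A subgroup of the dual with trivial common kernel is the whole dual. -/
theorem eq_top_of_forall (B : Subgroup (Dual H))
    (hB : ∀ h : H, (∀ a ∈ B, a h = 1) → h = 1) : B = ⊤ := by
  by_contra hne
  obtain ⟨a, ha⟩ : ∃ a, a ∉ B := by
    by_contra hcon
    push Not at hcon
    exact hne (Subgroup.eq_top_iff' B |>.mpr hcon)
  have hfin : Finite (Dual H) := Finite.of_fintype _
  have hcomm : IsMulCommutative (Dual H) := ⟨⟨dual_comm⟩⟩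
  have hnormal : B.Normal := ⟨fun b hb g => by rwa [dual_comm g b, mul_inv_cancel_right (G := Dual H)]⟩
  have hexp : NeZero (Monoid.exponent (Dual H)) := ⟨Monoid.exponent_ne_zero_of_finite (G := Dual H)⟩
  obtain ⟨ψ, hψ⟩ := CommGroup.exists_apply_ne_one_of_hasEnoughRootsOfUnity (Dual H ⧸ B) ℂ
    (fun e => ha ((QuotientGroup.eq_one_iff a).mp e) : (QuotientGroup.mk a : Dual H ⧸ B) ≠ 1)
  let ev : H → (Dual H →* ℂˣ) := fun h =>
    { toFun := fun b => b h, map_one' := rfl, map_mul' := fun _ _ => rfl }
  have hinj : Function.Injective ev := by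
    intro x y hxy
    by_contra hxy'
    obtain ⟨b, hb⟩ := CommGroup.exists_apply_ne_one_of_hasEnoughRootsOfUnity H ℂ
      (fun e => hxy' (mul_inv_eq_one.mp e) : x * y⁻¹ ≠ 1)
    apply hb
    rw [map_mul, map_inv, mul_inv_eq_one]
    exact DFunLike.congr_fun hxy b
  have hfin2 : Finite (Dual H →* ℂˣ) :=
    .of_equiv _ (CommGroup.monoidHom_mulEquiv_of_hasEnoughRootsOfUnity (Dual H) ℂ).some.toEquiv.symm
  have hcard : Nat.card H = Nat.card (Dual H →* ℂˣ) :=
    (CommGroup.card_monoidHom_of_hasEnoughRootsOfUnity H ℂ).symm.trans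
      (CommGroup.card_monoidHom_of_hasEnoughRootsOfUnity (Dual H) ℂ).symm
  obtain ⟨h, hh⟩ := (hinj.bijective_of_nat_card_le hcard.ge).2 (ψ.comp (QuotientGroup.mk' B))
  have h1 : h = 1 := hB h fun b hb => by
    have := DFunLike.congr_fun hh b
    rw [MonoidHom.comp_apply, QuotientGroup.mk'_apply, (QuotientGroup.eq_one_iff b).mpr hb,
      map_one] at this
    exact this
  subst h1
  have := DFunLike.congr_fun hh a
  exact hψ (this.symm.trans (map_one a))

variable {V : Type v} [CommGroup V] [Finite V] (φ : H →* MulAut V)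

/-- The vectors moved into `W'` by `h`, inside `W`. -/
def movedInto (W W' : Subgroup V) (h : H) : Subgroup V where
  carrier := {x | x ∈ W ∧ φ h x / x ∈ W'}
  mul_mem' := fun ha hb => ⟨W.mul_mem ha.1 hb.1, by
    rw [map_mul, mul_div_mul_comm]; exact W'.mul_mem ha.2 hb.2⟩
  one_mem' := ⟨W.one_mem, by simp⟩
  inv_mem' := fun {a} ha => ⟨W.inv_mem ha.1, by
    have := W'.inv_mem ha.2
    simpa [inv_div, div_eq_mul_inv, mul_comm] using this⟩

theorem exists_list_aux (hcop : (Nat.card V).Coprime (Nat.card H)) (W : Subgroup V)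
    (hW : ∀ h : H, ∀ x ∈ W, φ h x ∈ W) :
    ∃ L : List (Subgroup (Dual H)),
      (∀ h, weight L h * (Nat.card {x : V // x ∈ W ∧ φ h x = x} : ℝ) ≤ (Nat.card W : ℝ)) ∧
      ∀ h, (∀ a ∈ L.foldr (· ⊔ ·) ⊥, a h = 1) → ∀ x ∈ W, φ h x = x := by
  induction W using WellFoundedLT.induction with
  | _ W ih =>
    classical
    by_cases hbot : W = ⊥
    · subst hbot
      refine ⟨[], fun h => ?_, fun h _ x hx => by rw [Subgroup.mem_bot.mp hx, map_one]⟩
      have : Nat.card {x : V // x ∈ (⊥ : Subgroup V) ∧ φ h x = x} ≤ Nat.card (⊥ : Subgroup V) :=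
        Nat.card_le_card_of_injective (fun x => (⟨x.1, x.2.1⟩ : (⊥ : Subgroup V)))
          (fun a b e => Subtype.ext (congrArg Subtype.val e :))
      simpa [weight] using this
    obtain ⟨W', hW'⟩ := (Set.toFinite {U : Subgroup V | U < W ∧ ∀ h : H, ∀ x ∈ U, φ h x ∈ U}).exists_maximal
      ⟨⊥, bot_lt_iff_ne_bot.mpr hbot, fun h x hx => by
        rw [Subgroup.mem_bot.mp hx, map_one]; exact Subgroup.one_mem _⟩
    obtain ⟨⟨hlt, hinv⟩, hmax⟩ := hW'
    obtain ⟨L, hL1, hL2⟩ := ih W' hlt hinv
    have hXinv : ∀ h k : H, ∀ x ∈ movedInto φ W W' h, φ k x ∈ movedInto φ W W' h := by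
      intro h k x hx
      refine ⟨hW k x hx.1, ?_⟩
      have e : φ h (φ k x) = φ k (φ h x) := by
        rw [← MulAut.mul_apply, ← map_mul, mul_comm, map_mul, MulAut.mul_apply]
      rw [e, ← map_div]
      exact hinv k _ hx.2
    have hXdich : ∀ h, movedInto φ W W' h = W ∨ movedInto φ W W' h ≤ W' := by
      intro h
      by_cases e : movedInto φ W W' h = W
      · exact Or.inl e
      · refine Or.inr (hmax ⟨lt_of_le_of_ne (fun x hx => hx.1) e, hXinv h⟩ ?_)
        intro x hx
        exact ⟨hlt.le hx, W'.div_mem (hinv h x hx) hx⟩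
    let K : Subgroup H :=
      { carrier := {h | ∀ x ∈ W, φ h x / x ∈ W'}
        mul_mem' := fun {a b} ha hb x hx => by
          have e : φ (a * b) x / x = (φ a (φ b x) / φ b x) * (φ b x / x) := by
            rw [map_mul, MulAut.mul_apply, div_mul_div_cancel]
          rw [e]
          exact W'.mul_mem (ha _ (hW b x hx)) (hb x hx)
        one_mem' := fun x _ => by simp
        inv_mem' := fun {a} ha x hx => by
          have e : φ a (φ a⁻¹ x) = x := by rw [← MulAut.mul_apply, ← map_mul]; simp
          have := W'.inv_mem (ha _ (hW a⁻¹ x hx))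
          rwa [e, inv_div] at this }
    obtain ⟨w, hwW, hwW'⟩ := SetLike.exists_of_lt hlt
    have hK : ∀ h, φ h w / w ∈ W' → h ∈ K := by
      intro h hh x hx
      rcases hXdich h with e | e
      · exact (e.symm ▸ hx : x ∈ movedInto φ W W' h).2
      · exact absurd (e ⟨hwW, hh⟩) hwW'
    -- the number of translates of `w`
    have hindex : K.index + 1 ≤ W'.relIndex W := by
      let g : Option (H ⧸ K) → W ⧸ W'.subgroupOf W := fun o =>
        o.elim (QuotientGroup.mk 1) fun c => QuotientGroup.mk ⟨φ c.out w, hW _ w hwW⟩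
      have hg : Function.Injective g := by
        have key : ∀ c d : H ⧸ K,
            (⟨φ c.out w, hW _ w hwW⟩ : W)⁻¹ * ⟨φ d.out w, hW _ w hwW⟩ ∈ W'.subgroupOf W → c = d := by
          intro c d hcd
          rw [Subgroup.mem_subgroupOf] at hcd
          have h1 := hinv c.out⁻¹ _ hcd
          have h2 : φ (c.out⁻¹ * d.out) w / w ∈ W' := by
            convert h1 using 1
            simp only [Subgroup.coe_mul, InvMemClass.coe_inv, map_mul, map_inv, MulAut.mul_apply]
            simp [div_eq_mul_inv, mul_comm]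
          have h3 := QuotientGroup.eq.mpr (hK _ h2)
          rwa [QuotientGroup.out_eq', QuotientGroup.out_eq'] at h3
        have hne : ∀ c : H ⧸ K, (⟨φ c.out w, hW _ w hwW⟩ : W) ∉ W'.subgroupOf W := by
          intro c hc
          apply hwW'
          have := hinv c.out⁻¹ _ (Subgroup.mem_subgroupOf.mp hc)
          simpa [← MulAut.mul_apply, ← map_mul] using this
        intro a b hab
        rcases a with _ | c <;> rcases b with _ | d <;> simp only [g, Option.elim] at hab
        · rfl
        · exact absurd ((QuotientGroup.eq_one_iff _).mp hab.symm) (hne d)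
        · exact absurd ((QuotientGroup.eq_one_iff _).mp hab) (hne c)
        · exact congrArg some (key c d (QuotientGroup.eq.mp hab))
      have := Nat.card_le_card_of_injective g hg
      rwa [Finite.card_option] at this
    refine ⟨ann K :: L, fun h => ?_, fun h hh x hx => ?_⟩
    · let C : Subgroup V :=
        { carrier := {x | x ∈ W ∧ φ h x = x}
          mul_mem' := fun ha hb => ⟨W.mul_mem ha.1 hb.1, by rw [map_mul, ha.2, hb.2]⟩
          one_mem' := ⟨W.one_mem, map_one _⟩
          inv_mem' := fun ha => ⟨W.inv_mem ha.1, by rw [map_inv, ha.2]⟩ }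
      have hC : Nat.card {x : V // x ∈ W ∧ φ h x = x} = Nat.card C := rfl
      have hC' : Nat.card {x : V // x ∈ W' ∧ φ h x = x} = Nat.card (W' ⊓ C : Subgroup V) :=
        Nat.card_congr (Equiv.subtypeEquivRight fun x => by
          exact ⟨fun hx => ⟨hx.1, hlt.le hx.1, hx.2⟩, fun hx => ⟨hx.1, hx.2.2⟩⟩)
      have hsplit : Nat.card C = W'.relIndex C * Nat.card (W' ⊓ C : Subgroup V) := by
        rw [← Subgroup.inf_relIndex_right W' C, ← Subgroup.relIndex_bot_left, ← Subgroup.relIndex_bot_left,
          mul_comm]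
        exact (Subgroup.relIndex_mul_relIndex ⊥ (W' ⊓ C) C bot_le inf_le_right).symm
      have hWsplit : (Nat.card W : ℝ) = (Nat.card W' : ℝ) * (W'.relIndex W : ℝ) := by
        rw [← Nat.cast_mul, ← Subgroup.relIndex_bot_left, ← Subgroup.relIndex_bot_left,
          Subgroup.relIndex_mul_relIndex ⊥ W' W bot_le hlt.le]
      have hrel : W'.relIndex C ≤ W'.relIndex W :=
        Subgroup.relIndex_le_of_le_right (fun x hx => hx.1)
          (Nat.pos_iff_ne_zero.mp (Nat.pos_of_ne_zero fun e => by
            rw [e] at hindex; omega))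
      have hfac : fac (ann K) h * (W'.relIndex C : ℝ) ≤ (W'.relIndex W : ℝ) := by
        rw [fac_eq]
        split_ifs with h1
        · rw [one_mul]; exact_mod_cast hrel
        · have hnK : h ∉ K := fun hmem => h1 fun a ha => ha h hmem
          have hsub : C ≤ W' := by
            intro x hx
            rcases hXdich h with e | e
            · exact absurd (fun y hy => (e.symm ▸ hy : y ∈ movedInto φ W W' h).2) hnK
            · exact e ⟨hx.1, by rw [hx.2, div_self']; exact W'.one_mem⟩
          rw [Subgroup.relIndex_eq_one.mpr hsub, Nat.cast_one, mul_one, card_ann, add_comm]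
          exact_mod_cast hindex
      have hL := hL1 h
      rw [hC'] at hL
      rw [hC, hsplit, hWsplit, Nat.cast_mul]
      simp only [weight]
      calc _ = (weight L h * (Nat.card (W' ⊓ C : Subgroup V) : ℝ)) *
            (fac (ann K) h * (W'.relIndex C : ℝ)) := by ring
        _ ≤ _ := mul_le_mul hL hfac (mul_nonneg (by
            rw [fac_eq]; split_ifs <;> positivity) (Nat.cast_nonneg _)) (Nat.cast_nonneg _)
    · rw [List.foldr_cons] at hh
      have hK' : h ∈ K := mem_of_forall_ann K fun a ha => hh a (Subgroup.mem_sup_left ha)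
      have hfix : ∀ y ∈ W', φ h y = y := hL2 h fun a ha => hh a (Subgroup.mem_sup_right ha)
      set c := φ h x / x with hc
      have hcW : c ∈ W' := hK' x hx
      have hpow : ∀ j : ℕ, φ (h ^ j) x = c ^ j * x := by
        intro j
        induction j with
        | zero => simp
        | succ j ihj =>
          rw [pow_succ', map_mul, MulAut.mul_apply, ihj, map_mul, map_pow (φ h) c j, hfix c hcW]
          rw [show φ h x = c * x from (div_mul_cancel _ _).symm, ← mul_assoc, ← pow_succ]
      have h1 := hpow (Nat.card H)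
      rw [pow_card_eq_one', map_one, MulAut.one_apply, right_eq_mul] at h1
      have h2 : c = 1 := (powCoprime hcop).injective (by simpa [powCoprime] using h1)
      rwa [hc, div_eq_one] at h2

/-- An abelian group acting faithfully and coprimely on an abelian group has a list of subgroups
of the dual generating it with weight at most `|V : C_V(h)|`. -/
theorem exists_list (hφ : Function.Injective φ) (hcop : (Nat.card V).Coprime (Nat.card H)) :
    ∃ L : List (Subgroup (Dual H)), L.foldr (· ⊔ ·) ⊥ = ⊤ ∧
      ∀ h, weight L h * (Nat.card {x : V // φ h x = x} : ℝ) ≤ (Nat.card V : ℝ) := by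
  obtain ⟨L, h1, h2⟩ := exists_list_aux φ hcop ⊤ (fun _ _ _ => Subgroup.mem_top _)
  refine ⟨L, eq_top_of_forall _ fun h hh => hφ ?_, fun h => ?_⟩
  · rw [map_one]
    ext x
    exact h2 h hh x (Subgroup.mem_top x)
  · have := h1 h
    rwa [Nat.card_congr (Equiv.subtypeEquivRight fun x => and_iff_right (Subgroup.mem_top x)),
      Subgroup.card_top] at this

end Cfsg.Agent.Lib.GaloisMean.CoprimeChain
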