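import Mathlib
import Cfsg.Agent.Lib.Characters.Basic
import Mathlib.RepresentationTheory.Invariants

/-!
# Averages of characters over the cosets of a normal subgroup
-/

namespace Cfsg.Agent.Lib.GaloisMean.CosetAvg

open Cfsg.Agent.Lib.Characters.Basic

universe u

variable {G : Type u} [Group G] [Finite G]

/-- The average of a character over the cosets of a normal subgroup is a character, namely that
of the representation on the fixed vectors of the normal subgroup. -/
theorem isCharacter_avg (N : Subgroup G) [hN : N.Normal] [Fintype N] {ψ : G → ℂ}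
    (hψ : Cfsg.IsCharacter G ψ) :
    Cfsg.IsCharacter G (fun x => (Nat.card N : ℂ)⁻¹ * ∑ n : N, ψ ((n : G) * x)) := by
  obtain ⟨d, ρ, rfl⟩ := hψ
  let P : Module.End ℂ (Fin d → ℂ) := (Nat.card N : ℂ)⁻¹ • ∑ n : N, ρ (n : G)
  have hne : (Nat.card N : ℂ) ≠ 0 := Nat.cast_ne_zero.mpr Nat.card_pos.ne'
  have hleft : ∀ m : N, ρ (m : G) * P = P := by
    intro m
    simp only [P, mul_smul_comm, Finset.mul_sum, ← map_mul]
    congr 1
    exact Fintype.sum_equiv (Equiv.mulLeft m) _ _ (fun n => rfl)
  let W : Subrepresentation ρ :=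
    { toSubmodule :=
        { carrier := {v | ∀ n : N, ρ (n : G) v = v}
          add_mem' := fun ha hb n => by rw [map_add, ha n, hb n]
          zero_mem' := fun n => map_zero _
          smul_mem' := fun c a ha n => by rw [map_smul, ha n] }
      apply_mem_toSubmodule := by
        intro g v hv n
        have e : (n : G) * g = g * (g⁻¹ * n * g) := by group
        have hmem : g⁻¹ * (n : G) * g ∈ N := by
          simpa using hN.conj_mem n n.2 g⁻¹
        rw [← Module.End.mul_apply, ← map_mul, e, map_mul, Module.End.mul_apply,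
          hv ⟨_, hmem⟩] }
  have hPmem : ∀ v, P v ∈ W.toSubmodule := fun v m => by
    rw [← Module.End.mul_apply, hleft]
  have hPid : ∀ v ∈ W.toSubmodule, P v = v := by
    intro v hv
    simp only [P, LinearMap.smul_apply, LinearMap.sum_apply]
    rw [Finset.sum_congr rfl fun n _ => hv n, Finset.sum_const, Finset.card_univ,
      ← Nat.card_eq_fintype_card, ← Nat.cast_smul_eq_nsmul ℂ, smul_smul, inv_mul_cancel₀ hne,
      one_smul]
  convert isCharacter_character W.toRepresentation using 1
  funext x
  have h1 : (Nat.card N : ℂ)⁻¹ * ∑ n : N, ρ.character ((n : G) * x) =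
      LinearMap.trace ℂ _ (ρ x * P) := by
    rw [LinearMap.trace_mul_comm]
    simp only [P, smul_mul_assoc, Finset.sum_mul, map_smul, map_sum, ← map_mul, smul_eq_mul]
    rfl
  rw [h1]
  have hmem : ∀ v, (ρ x * P) v ∈ W.toSubmodule := fun v =>
    W.apply_mem_toSubmodule x (hPmem v)
  rw [← LinearMap.trace_restrict_eq_of_forall_mem W.toSubmodule (ρ x * P) hmem]
  unfold Representation.character
  congr 1
  ext v : 1
  apply Subtype.ext
  change (ρ x) (P (v : Fin d → ℂ)) = (ρ x) (v : Fin d → ℂ)
  rw [hPid _ v.2]

end Cfsg.Agent.Lib.GaloisMean.CosetAvg
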