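import Mathlib
import Cfsg.Agent.Lib.Characters.Basic

/-!
# Non-vanishing of irreducible characters on abelian normal `p`-subgroups

If `v` lies in an abelian normal `p`-subgroup and `p` does not divide the class size of `v`,
then no irreducible character vanishes at `v`.
-/

namespace Cfsg.Agent.Lib.GaloisMean.NonVanish

universe u

/-- The `p ^ n`-th power of a sum of group elements in a commutative integral group ring whose
exponent divides `p ^ n` is congruent to the number of summands. -/
theorem exists_pow_sub_eq_mul {V : Type*} [CommGroup V] (p n : ℕ) [Fact p.Prime]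
    (hV : ∀ u : V, u ^ p ^ n = 1) (s : Finset V) :
    ∃ y : MonoidAlgebra ℤ V,
      (∑ u ∈ s, MonoidAlgebra.single u (1 : ℤ)) ^ p ^ n - (s.card : MonoidAlgebra ℤ V) = (p : ℕ) * y := by
  classical
  have : CharP (MonoidAlgebra (ZMod p) V) p :=
    charP_of_injective_algebraMap (algebraMap (ZMod p) (MonoidAlgebra (ZMod p) V)).injective p
  have : ExpChar (MonoidAlgebra (ZMod p) V) p := ExpChar.prime Fact.out
  let π : MonoidAlgebra ℤ V →+* MonoidAlgebra (ZMod p) V :=
    MonoidAlgebra.mapRingHom V (Int.castRingHom (ZMod p))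
  set z := (∑ u ∈ s, MonoidAlgebra.single u (1 : ℤ)) ^ p ^ n - (s.card : MonoidAlgebra ℤ V)
  have hz : π z = 0 := by
    simp only [z, π, map_sub, map_pow, map_sum, map_natCast, MonoidAlgebra.mapRingHom_single,
      map_one]
    rw [sum_pow_char_pow]
    simp [hV, ← MonoidAlgebra.one_def]
  have hdvd : ∀ u : V, (p : ℤ) ∣ z.coeff u := by
    intro u
    rw [← ZMod.intCast_zmod_eq_zero_iff_dvd]
    simpa [π, MonoidAlgebra.coeff_mapRingHom] using
      congrArg (fun a : MonoidAlgebra (ZMod p) V => a.coeff u) hz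
  refine ⟨∑ u ∈ z.coeff.support, MonoidAlgebra.single u (z.coeff u / p), ?_⟩
  rw [← nsmul_eq_mul, Finset.smul_sum]
  conv_lhs => rw [← MonoidAlgebra.sum_coeff_single z]
  refine Finset.sum_congr rfl fun u _ => ?_
  rw [MonoidAlgebra.smul_single, nsmul_eq_mul, Int.mul_ediv_cancel' (hdvd u)]

variable {G : Type u} [Group G] [Finite G]

/-- A character value at an element of an abelian normal `p`-subgroup with class size prime to
`p` is non-zero. -/
theorem apply_ne_zero (p : ℕ) [Fact p.Prime] (V : Subgroup G) [hN : V.Normal]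
    (hab : ∀ a ∈ V, ∀ b ∈ V, a * b = b * a) (hVp : IsPGroup p V) {v : G} (hv : v ∈ V)
    (hidx : ¬ p ∣ Nat.card {x : G // IsConj v x}) (χ : Cfsg.IrrCharacter G) :
    (χ : G → ℂ) v ≠ 0 := by
  classical
  intro h0
  have := Fintype.ofFinite G
  let instV : CommGroup V :=
    { (inferInstance : Group V) with mul_comm := fun a b => Subtype.ext (hab a a.2 b b.2) }
  obtain ⟨d, ρ, hρ, hχ⟩ := χ.2
  obtain ⟨n, hn⟩ := IsPGroup.iff_card.mp hVp
  let s : Finset V := Finset.univ.filter (fun u : V => IsConj v u)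
  have hs : s.card = Nat.card {x : G // IsConj v x} := by
    rw [← Nat.card_eq_finsetCard]
    exact Nat.card_congr
      { toFun := fun u => ⟨u.1, (Finset.mem_filter.mp u.2).2⟩
        invFun := fun x => ⟨⟨x.1, by
            obtain ⟨c, hc⟩ := isConj_iff.mp x.2
            rw [← hc]; exact hN.conj_mem v hv c⟩, Finset.mem_filter.mpr ⟨Finset.mem_univ _, x.2⟩⟩
        left_inv := fun u => rfl
        right_inv := fun x => rfl }
  obtain ⟨y, hy⟩ := exists_pow_sub_eq_mul p n (fun u : V => hn ▸ pow_card_eq_one') s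
  let ev : MonoidAlgebra ℤ V →ₐ[ℤ] Module.End ℂ (Fin d → ℂ) :=
    MonoidAlgebra.lift ℤ (Module.End ℂ (Fin d → ℂ)) V (ρ.comp V.subtype)
  let K : Module.End ℂ (Fin d → ℂ) := ∑ u ∈ s, ρ (u : G)
  have hK : ev (∑ u ∈ s, MonoidAlgebra.single u (1 : ℤ)) = K := by
    simp [ev, K, MonoidAlgebra.lift_single]
  have hcomm : ∀ g : G, K * ρ g = ρ g * K := by
    intro g
    simp only [K, Finset.sum_mul, Finset.mul_sum, ← map_mul]
    refine Finset.sum_equiv (MulAut.conjNormal (H := V) g⁻¹).toEquiv ?_ ?_
    · intro u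
      simp only [s, Finset.mem_filter, Finset.mem_univ, true_and, MulEquiv.toEquiv_eq_coe,
        MulEquiv.coe_toEquiv, MulAut.conjNormal_apply, inv_inv]
      have : IsConj (u : G) (g⁻¹ * u * g) := isConj_iff.mpr ⟨g⁻¹, by group⟩
      exact ⟨fun h => h.trans this, fun h => h.trans this.symm⟩
    · intro u _
      congr 1
      simp only [MulEquiv.toEquiv_eq_coe, MulEquiv.coe_toEquiv, MulAut.conjNormal_apply, inv_inv]
      group
  let f : Representation.IntertwiningMap ρ ρ :=
    { K with isIntertwining' := fun g => hcomm g }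
  have : ρ.IsIrreducible := hρ
  obtain ⟨c, hc⟩ := (Representation.IsIrreducible.algebraMap_intertwiningMap_bijective_of_isAlgClosed
    (ρ := ρ)).2 f
  have hKc : K = c • (1 : Module.End ℂ (Fin d → ℂ)) := by
    have := congrArg Representation.IntertwiningMap.toLinearMap hc
    exact this.symm
  have htr : LinearMap.trace ℂ _ K = 0 := by
    simp only [K, map_sum]
    refine Finset.sum_eq_zero fun u hu => ?_
    change ρ.character (u : G) = 0
    obtain ⟨c, hc⟩ := isConj_iff.mp (Finset.mem_filter.mp hu).2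
    rw [← hc, Representation.char_conj, hχ, h0]
  have hd : (d : ℂ) ≠ 0 := by
    have := Cfsg.Agent.Lib.Characters.Basic.finrank_pos_of_isIrreducible ρ
    rw [Module.finrank_fin_fun] at this
    exact Nat.cast_ne_zero.mpr this.ne'
  rw [hKc, map_smul, LinearMap.trace_one, Module.finrank_fin_fun, smul_eq_mul, mul_eq_zero,
    or_iff_left hd] at htr
  rw [htr, zero_smul] at hKc
  have hp0 : p ^ n ≠ 0 := pow_ne_zero _ (Fact.out : p.Prime).ne_zero
  have h1 : -(s.card : Module.End ℂ (Fin d → ℂ)) = (p : Module.End ℂ (Fin d → ℂ)) * ev y := by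
    have := congrArg ev hy
    rwa [map_sub, map_pow, map_mul, map_natCast, map_natCast, hK, hKc, zero_pow hp0, zero_sub] at this
  have hint : IsIntegral ℤ (ev y) := (IsIntegral.of_finite ℤ y).map ev
  set r : ℂ := -(s.card : ℂ) / p with hr
  have hpC : (p : ℂ) ≠ 0 := Nat.cast_ne_zero.mpr (Fact.out : p.Prime).ne_zero
  have hr' : ev y = algebraMap ℂ (Module.End ℂ (Fin d → ℂ)) r := by
    have h2 : (p : ℂ) • ev y = (p : ℂ) • algebraMap ℂ (Module.End ℂ (Fin d → ℂ)) r := by
      rw [Algebra.smul_def, Algebra.smul_def, map_natCast, ← h1]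
      rw [← map_natCast (algebraMap ℂ (Module.End ℂ (Fin d → ℂ))),
        ← map_natCast (algebraMap ℂ (Module.End ℂ (Fin d → ℂ))), ← map_mul, ← map_neg]
      congr 1
      rw [hr]; field_simp
    exact smul_right_injective _ hpC h2
  rw [hr'] at hint
  have hnt : Nontrivial (Fin d → ℂ) := by
    have := Cfsg.Agent.Lib.Characters.Basic.finrank_pos_of_isIrreducible ρ
    exact Module.finrank_pos_iff.mp this
  rw [isIntegral_algebraMap_iff (algebraMap ℂ (Module.End ℂ (Fin d → ℂ))).injective] at hint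
  have hq : IsIntegral ℤ (-(s.card : ℚ) / p) := by
    rw [← isIntegral_algebraMap_iff (algebraMap ℚ ℂ).injective]
    simpa [hr] using hint
  obtain ⟨m, hm⟩ := IsIntegrallyClosed.isIntegral_iff.mp hq
  simp only [eq_intCast] at hm
  apply hidx
  rw [← hs, ← Int.natCast_dvd_natCast]
  refine ⟨-m, ?_⟩
  have hpQ : (p : ℚ) ≠ 0 := Nat.cast_ne_zero.mpr (Fact.out : p.Prime).ne_zero
  have : (s.card : ℚ) = (p : ℚ) * (-(m : ℚ)) := by rw [hm]; field_simp
  exact_mod_cast this

end Cfsg.Agent.Lib.GaloisMean.NonVanish
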