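import Mathlib
import Cfsg.Agent.Lib.GaloisMean.CoprimeChain
import Cfsg.Agent.Lib.GaloisMean.CosetAvg
import Cfsg.Agent.Lib.GaloisMean.NonVanish
import Cfsg.Agent.Lib.Characters.Complete

/-!
# Abelian normal Sylow subgroups: column estimates

`X` has an abelian normal Sylow `p`-subgroup `V` with complement `G`.
-/

namespace Cfsg.Agent.Lib.GaloisMean.CoprimeSylow

open scoped ComplexConjugate
open Cfsg.Agent.Lib.Characters.Basic Cfsg.Agent.Lib.BC78.Galois

universe u

variable {X : Type u} [Group X]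

/-- Coprime powers have the same centralizer. -/
theorem centralizer_pow [Finite X] (w : X) {k : ℕ} (hk : k.Coprime (orderOf w)) :
    Subgroup.centralizer ({w ^ k} : Set X) = Subgroup.centralizer ({w} : Set X) := by
  ext x
  simp only [Subgroup.mem_centralizer_iff, Set.mem_singleton_iff, forall_eq]
  constructor
  · intro h
    obtain ⟨m, hm⟩ := exists_pow_eq_self_of_coprime hk
    have := (show Commute (w ^ k) x from h).pow_left m
    rwa [hm] at this
  · intro h
    exact ((show Commute w x from h).pow_left k).eq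

theorem orderOf_neZero [Finite X] (v : X) : NeZero (orderOf v) := ⟨(orderOf_pos v).ne'⟩

/-- Multiplication of exponents modulo the order. -/
theorem pow_unit_mul (v : X) [NeZero (orderOf v)] (t : (ZMod (orderOf v))ˣ) {k : ℕ}
    (hk : k.Coprime (orderOf v)) :
    v ^ ((t * ZMod.unitOfCoprime k hk : (ZMod (orderOf v))ˣ) : ZMod (orderOf v)).val =
      (v ^ (t : ZMod (orderOf v)).val) ^ k := by
  rw [← pow_mul, Units.val_mul, ZMod.coe_unitOfCoprime, ← pow_mod_orderOf v (_ * k)]
  congr 1
  rw [← ZMod.val_natCast (orderOf v) ((t : ZMod (orderOf v)).val * k)]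
  simp

theorem val_coprime (v : X) [NeZero (orderOf v)] (t : (ZMod (orderOf v))ˣ) :
    ((t : ZMod (orderOf v)).val).Coprime (orderOf v) := ZMod.val_coe_unit_coprime t

variable [Finite X] (p : ℕ) [Fact p.Prime] (V : Subgroup X) [V.Normal]

/-- No irreducible character vanishes on the normal abelian Sylow subgroup. -/
theorem apply_ne_zero (hVp : IsPGroup p V) (hidx : ¬ p ∣ V.index)
    (hab : ∀ a ∈ V, ∀ b ∈ V, a * b = b * a) {w : X} (hw : w ∈ V) (χ : Cfsg.IrrCharacter X) :
    (χ : X → ℂ) w ≠ 0 := by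
  refine Cfsg.Agent.Lib.GaloisMean.NonVanish.apply_ne_zero p V hab hVp hw ?_ χ
  intro hdvd
  apply hidx
  refine hdvd.trans ?_
  have h1 := Cfsg.Agent.Lib.Characters.Complete.card_conjugates_mul_centralizer w
  have h2 : Nat.card {x : X // IsConj w x} = (Subgroup.centralizer ({w} : Set X)).index := by
    apply Nat.eq_of_mul_eq_mul_right (m := Nat.card (Subgroup.centralizer ({w} : Set X))) Nat.card_pos
    rw [h1, Subgroup.index_mul_card]
  rw [h2]
  apply Subgroup.index_dvd_of_le
  intro x hx
  simp only [Subgroup.mem_centralizer_iff, Set.mem_singleton_iff, forall_eq]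
  exact hab w hw x hx

/-- The order of a centralizer of an element of `V`. -/
theorem card_centralizer_mem (hab : ∀ a ∈ V, ∀ b ∈ V, a * b = b * a) (G : Subgroup X)
    (hGV : Subgroup.IsComplement' V G) {w : X} (hw : w ∈ V) :
    Nat.card (Subgroup.centralizer ({w} : Set X)) =
      Nat.card ↥(G ⊓ Subgroup.centralizer ({w} : Set X)) * Nat.card V := by
  rw [mul_comm, ← Nat.card_prod]
  symm
  let f : ↥V × ↥(G ⊓ Subgroup.centralizer ({w} : Set X)) → Subgroup.centralizer ({w} : Set X) :=
    fun q => ⟨(q.1 : X) * q.2, mul_mem (by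
      simp only [Subgroup.mem_centralizer_iff, Set.mem_singleton_iff, forall_eq]
      exact hab w hw q.1 q.1.2) q.2.2.2⟩
  refine Nat.card_congr (Equiv.ofBijective f ⟨?_, ?_⟩)
  · intro q r h
    have h1 := congrArg Subtype.val h
    have := hGV.1 (a₁ := (q.1, ⟨q.2.1, q.2.2.1⟩)) (a₂ := (r.1, ⟨r.2.1, r.2.2.1⟩)) h1
    simp only [Prod.mk.injEq, Subtype.mk.injEq] at this
    exact Prod.ext this.1 (Subtype.ext this.2)
  · rintro ⟨x, hx⟩
    obtain ⟨⟨a, b⟩, rfl⟩ := hGV.2 x
    have ha : (a : X) ∈ Subgroup.centralizer ({w} : Set X) := by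
      simp only [Subgroup.mem_centralizer_iff, Set.mem_singleton_iff, forall_eq]
      exact hab w hw a a.2
    refine ⟨(a, ⟨b, b.2, ?_⟩), rfl⟩
    have := mul_mem (inv_mem ha) hx
    simpa using this

/-- The order of the centralizer of `w * h` for `w` in `V` and a `p'`-element `h` of the
complement centralizing `w`, when the stabilizer of `w` in the complement is abelian. -/
theorem card_centralizer_mul (hab : ∀ a ∈ V, ∀ b ∈ V, a * b = b * a) (G : Subgroup X)
    (hGV : Subgroup.IsComplement' V G) (hcop : (Nat.card V).Coprime (Nat.card G)) {w : X}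
    (hw : w ∈ V) (hHab : ∀ a ∈ G ⊓ Subgroup.centralizer ({w} : Set X),
      ∀ b ∈ G ⊓ Subgroup.centralizer ({w} : Set X), a * b = b * a)
    {h : X} (hh : h ∈ G ⊓ Subgroup.centralizer ({w} : Set X)) :
    Nat.card (Subgroup.centralizer ({w * h} : Set X)) =
      Nat.card {u : V // h * (u : X) * h⁻¹ = u} *
        Nat.card ↥(G ⊓ Subgroup.centralizer ({w} : Set X)) := by
  have hmemC : ∀ {g z : X}, g ∈ Subgroup.centralizer ({z} : Set X) ↔ Commute z g := by
    intro g z
    simp [Subgroup.mem_centralizer_iff, commute_iff_eq]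
  have hwh : Commute w h := hmemC.mp hh.2
  rw [← Nat.card_prod]
  symm
  let f : {u : V // h * (u : X) * h⁻¹ = u} × ↥(G ⊓ Subgroup.centralizer ({w} : Set X)) →
      Subgroup.centralizer ({w * h} : Set X) := fun q =>
    ⟨(q.1.1 : X) * q.2, by
      have h1 : Commute h (q.1.1 : X) := mul_inv_eq_iff_eq_mul.mp q.1.2
      have h2 : Commute w (q.1.1 : X) := hab w hw _ q.1.1.2
      have h3 : Commute w (q.2 : X) := hmemC.mp q.2.2.2
      have h4 : Commute h (q.2 : X) := hHab h hh q.2 q.2.2
      exact hmemC.mpr ((h2.mul_right h3).mul_left (h1.mul_right h4))⟩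
  refine Nat.card_congr (Equiv.ofBijective f ⟨?_, ?_⟩)
  · intro q r e
    have h1 := congrArg Subtype.val e
    have := hGV.1 (a₁ := (q.1.1, ⟨q.2.1, q.2.2.1⟩)) (a₂ := (r.1.1, ⟨r.2.1, r.2.2.1⟩)) h1
    simp only [Prod.mk.injEq, Subtype.mk.injEq] at this
    exact Prod.ext (Subtype.ext this.1) (Subtype.ext this.2)
  · rintro ⟨x, hx⟩
    obtain ⟨⟨a, b⟩, rfl⟩ := hGV.2 x
    have hcx : Commute (w * h) ((a : X) * b) := hmemC.mp hx
    have ho : h ^ Nat.card G = 1 := by
      have e := pow_card_eq_one' (x := (⟨h, hh.1⟩ : G))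
      exact congrArg Subtype.val e
    have hcw : (orderOf w).Coprime (Nat.card G) := by
      refine hcop.coprime_dvd_left ?_
      rw [← Subgroup.orderOf_mk w hw]
      exact orderOf_dvd_natCard _
    obtain ⟨m, hm⟩ := exists_pow_eq_self_of_coprime hcw.symm
    have hwx : Commute w ((a : X) * b) := by
      have e : (w * h) ^ Nat.card G = w ^ Nat.card G := by rw [hwh.mul_pow, ho, mul_one]
      have := (hcx.pow_left (Nat.card G)).pow_left m
      rwa [e, hm] at this
    have hwa : Commute w (a : X) := hab w hw a a.2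
    have hwb : Commute w (b : X) := by
      have := hwa.inv_right.mul_right hwx
      simpa using this
    have hbH : (b : X) ∈ G ⊓ Subgroup.centralizer ({w} : Set X) := ⟨b.2, hmemC.mpr hwb⟩
    have hhb : Commute h (b : X) := hHab h hh b hbH
    have hhx : Commute h ((a : X) * b) := by
      have e : h = w⁻¹ * (w * h) := by group
      rw [e]
      exact hwx.inv_left.mul_left hcx
    have hha : Commute h (a : X) := by
      have := hhx.mul_right hhb.inv_right
      simpa using this
    exact ⟨(⟨a, mul_inv_eq_iff_eq_mul.mpr hha⟩, ⟨b, hbH⟩), rfl⟩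

end Cfsg.Agent.Lib.GaloisMean.CoprimeSylow
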