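import Mathlib
import Cfsg.Agent.Lib.Characters.Basic
import Cfsg.Agent.Lib.Characters.Diag

/-!
# Characters whose squared absolute value counts fixed points

For a finite abelian `p`-group `U` with a bi-additive `b : U → U → ZMod p` whose commutator
form is nondegenerate, and a group `H` of coprime order acting on `U` preserving `b`, there is
a character `χ` of `H` with `|χ h|² = #C_U(h)` and `χ h ^ 4` equal to `#C_U(h)²` times a root
of unity.
-/

namespace Cfsg.Agent.Lib.GaloisMean.Weil

open scoped ComplexConjugate Kronecker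
open Matrix

variable {p : ℕ} [Fact p.Prime] {U : Type*} [AddCommGroup U]

/-- The standard additive character. -/
noncomputable abbrev e (a : ZMod p) : ℂ := ZMod.stdAddChar a

theorem e_add (a b : ZMod p) : e (a + b) = e a * e b := AddChar.map_add_eq_mul _ a b

theorem e_zero : e (0 : ZMod p) = 1 := AddChar.map_zero_eq_one _

theorem e_ne_zero (a : ZMod p) : e a ≠ 0 := fun h => by
  have : (1 : ℂ) = 0 := by
    rw [← e_zero (p := p), ← add_neg_cancel a, e_add, h, zero_mul]
  exact one_ne_zero this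

theorem e_eq_one_iff (a : ZMod p) : e a = 1 ↔ a = 0 := by
  rw [← e_zero (p := p)]
  exact ⟨fun h => ZMod.injective_stdAddChar h, fun h => h ▸ rfl⟩

theorem e_pow_card (a : ZMod p) : e a ^ p = 1 := by
  rw [← AddChar.map_nsmul_eq_pow, nsmul_eq_mul, ZMod.natCast_self, zero_mul, AddChar.map_zero_eq_one]

theorem conj_e (a : ZMod p) : conj (e a) = e (-a) := by
  rw [Cfsg.Agent.Lib.Characters.Diag.conj_eq_inv_of_pow (Fact.out : p.Prime).ne_zero (e_pow_card a)]
  exact inv_eq_of_mul_eq_one_right (by rw [← e_add, add_neg_cancel, e_zero])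

/-- A system of matrices with multiplication given by a bi-additive cocycle. -/
structure Sys (q : U →+ U →+ ZMod p) (ι : Type*) [Fintype ι] [DecidableEq ι] [Fintype U] where
  /-- The matrices. -/
  L : U → Matrix ι ι ℂ
  map_mul : ∀ u w, L u * L w = e (q u w) • L (u + w)
  map_zero : L 0 = 1
  pos : 0 < Fintype.card ι

/-- Nondegeneracy of the commutator form. -/
def ND (q : U →+ U →+ ZMod p) : Prop := ∀ u, (∀ w, q u w = q w u) → u = 0

variable [Fintype U] [DecidableEq U] {q : U →+ U →+ ZMod p} {ι : Type*} [Fintype ι] [DecidableEq ι]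

namespace Sys

variable (S : Sys q ι)

/-- The inverse of `L u`. -/
noncomputable def Linv (u : U) : Matrix ι ι ℂ := e (q u u) • S.L (-u)

omit [DecidableEq U] in
theorem mul_Linv (u : U) : S.L u * S.Linv u = 1 := by
  rw [Linv, Matrix.mul_smul, S.map_mul, add_neg_cancel, S.map_zero, smul_smul, ← e_add,
    (q u).map_neg, add_neg_cancel, e_zero, one_smul]

omit [DecidableEq U] in
theorem Linv_mul (u : U) : S.Linv u * S.L u = 1 := mul_eq_one_comm.mp (S.mul_Linv u)

omit [DecidableEq U] in
theorem trace_L_ne (hq : ND q) {u : U} (hu : u ≠ 0) : trace (S.L u) = 0 := by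
  obtain ⟨w, hw⟩ : ∃ w, q u w ≠ q w u := by
    by_contra! h
    exact hu (hq u h)
  have h1 : S.L u * S.L w = e (q u w - q w u) • (S.L w * S.L u) := by
    rw [S.map_mul, S.map_mul, smul_smul, ← e_add, sub_add_cancel, add_comm u w]
  have h2 : trace (S.L u) = e (q u w - q w u) * trace (S.L u) := by
    calc trace (S.L u) = trace (S.L u * (S.L w * S.Linv w)) := by rw [S.mul_Linv, mul_one]
      _ = trace (S.Linv w * (S.L u * S.L w)) := by rw [← mul_assoc, trace_mul_comm]
      _ = e (q u w - q w u) * trace (S.L u) := by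
        rw [h1, Matrix.mul_smul, trace_smul, ← mul_assoc, S.Linv_mul, one_mul, smul_eq_mul]
  have h3 : e (q u w - q w u) ≠ 1 := fun h => hw (sub_eq_zero.mp ((e_eq_one_iff _).mp h))
  by_contra h4
  exact h3 (mul_right_cancel₀ h4 (h2.symm.trans (one_mul _).symm))

theorem trace_L (hq : ND q) (u : U) : trace (S.L u) = if u = 0 then (Fintype.card ι : ℂ) else 0 := by
  split_ifs with h
  · rw [h, S.map_zero, trace_one]
  · exact S.trace_L_ne hq h

theorem trace_mul_Linv (hq : ND q) (u w : U) :
    trace (S.L u * S.Linv w) = if u = w then (Fintype.card ι : ℂ) else 0 := by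
  split_ifs with h
  · rw [h, S.mul_Linv, trace_one]
  · rw [Linv, Matrix.mul_smul, trace_smul, S.map_mul, trace_smul,
      S.trace_L_ne hq (fun h0 => h (eq_of_sub_eq_zero (by rwa [sub_eq_add_neg]))), smul_zero,
      smul_zero]

omit [DecidableEq U] in
theorem linearIndependent (hq : ND q) : LinearIndependent ℂ S.L := by
  classical
  rw [Fintype.linearIndependent_iff]
  intro c hc w
  have h1 : trace ((∑ u, c u • S.L u) * S.Linv w) = 0 := by rw [hc, zero_mul, Matrix.trace_zero]
  simp only [Finset.sum_mul, Matrix.smul_mul, trace_sum, trace_smul, S.trace_mul_Linv hq,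
    smul_eq_mul, mul_ite, mul_zero, Finset.sum_ite_eq', Finset.mem_univ, if_true] at h1
  exact (mul_eq_zero.mp h1).resolve_right (Nat.cast_ne_zero.mpr S.pos.ne')

/-- The size condition, equivalent to spanning all matrices. -/
def Full (_S : Sys q ι) : Prop := Fintype.card ι * Fintype.card ι = Fintype.card U

omit [DecidableEq U] in
theorem span_eq_top (hq : ND q) (hf : S.Full) : Submodule.span ℂ (Set.range S.L) = ⊤ := by
  refine (S.linearIndependent hq).span_eq_top_of_card_eq_finrank' ?_
  rw [Module.finrank_matrix, Module.finrank_self, mul_one]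
  exact hf.symm

omit [DecidableEq U] in
theorem scalar_of_commute (hq : ND q) (hf : S.Full) {C : Matrix ι ι ℂ}
    (hC : ∀ u, Commute C (S.L u)) : ∃ c : ℂ, C = c • 1 := by
  have h : ∀ A : Matrix ι ι ℂ, Commute C A := by
    intro A
    have hA : A ∈ Submodule.span ℂ (Set.range S.L) := by rw [S.span_eq_top hq hf]; trivial
    induction hA using Submodule.span_induction with
    | mem x hx => obtain ⟨u, rfl⟩ := hx; exact hC u
    | zero => exact Commute.zero_right C
    | add x y _ _ hx hy => exact hx.add_right hy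
    | smul a x _ hx => exact hx.smul_right a
  obtain ⟨c, hc⟩ := Matrix.mem_range_scalar_iff_commute_single.mpr
    (fun i j _ => (h (Matrix.single i j 1)).symm)
  exact ⟨c, by rw [← hc, scalar_apply, smul_one_eq_diagonal]⟩

omit [DecidableEq U] in
theorem Linv_mul_Linv (u w : U) : S.Linv w * S.Linv u = (e (q u w))⁻¹ • S.Linv (u + w) := by
  have h1 : S.Linv w * S.Linv u * (S.L u * S.L w) = 1 := by
    rw [mul_assoc, ← mul_assoc (S.Linv u), S.Linv_mul, one_mul, S.Linv_mul]
  rw [S.map_mul, Matrix.mul_smul] at h1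
  have h2 : S.Linv w * S.Linv u =
      (e (q u w))⁻¹ • (e (q u w) • (S.Linv w * S.Linv u * S.L (u + w)) * S.Linv (u + w)) := by
    rw [Matrix.smul_mul, mul_assoc, S.mul_Linv, mul_one, smul_smul,
      inv_mul_cancel₀ (e_ne_zero _), one_smul]
  rw [h2, h1, one_mul]

end Sys

omit [DecidableEq U] in
theorem exists_intertwiner (hq : ND q) (S S' : Sys q ι) (hf : S.Full) :
    ∃ M : Matrix ι ι ℂ, IsUnit M ∧ ∀ u, M * S.L u = S'.L u * M := by
  classical
  let T : Matrix ι ι ℂ → Matrix ι ι ℂ := fun A => ∑ w, S'.L w * A * S.Linv w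
  have hint : ∀ A u, T A * S.L u = S'.L u * T A := by
    intro A u
    have h1 : S'.L u * T A * S.Linv u = T A := by
      simp only [T, Finset.mul_sum, Finset.sum_mul]
      refine Fintype.sum_equiv (Equiv.addLeft u) _ _ (fun w => ?_)
      simp only [Equiv.coe_addLeft]
      rw [show S'.L u * (S'.L w * A * S.Linv w) * S.Linv u
          = (S'.L u * S'.L w) * A * (S.Linv w * S.Linv u) by simp only [mul_assoc],
        S'.map_mul, S.Linv_mul_Linv, Matrix.smul_mul, Matrix.smul_mul, Matrix.mul_smul, smul_smul,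
        mul_inv_cancel₀ (e_ne_zero _), one_smul]
    conv_lhs => rw [← h1]
    rw [mul_assoc, mul_assoc, S.Linv_mul, mul_one]
  obtain ⟨A, hA⟩ : ∃ A, T A ≠ 0 := by
    by_contra! h
    obtain ⟨i₀⟩ := Fintype.card_pos_iff.mp S.pos
    have h1 : ∀ i k, ∑ w, S'.L w i i * S.Linv w k i₀ = 0 := fun i k => by
      have := congrFun (congrFun (h (Matrix.single i k 1)) i) i₀
      simpa [T, Matrix.sum_apply, Matrix.mul_apply, Matrix.single_apply, Finset.sum_mul, ite_and,
        mul_ite, ite_mul] using this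
    have h2 : ∑ w, trace (S'.L w) * S.Linv w i₀ i₀ = 0 := by
      simp only [trace, diag_apply, Finset.sum_mul]
      rw [Finset.sum_comm]
      exact Finset.sum_eq_zero fun i _ => h1 i i₀
    simp only [S'.trace_L hq, ite_mul, zero_mul, Finset.sum_ite_eq', Finset.mem_univ, if_true,
      Sys.Linv, map_zero, AddMonoidHom.zero_apply, neg_zero, S.map_zero, e_zero, one_smul,
      Matrix.one_apply_eq, mul_one, Nat.cast_eq_zero] at h2
    exact S.pos.ne' h2
  refine ⟨T A, ?_, hint A⟩
  rw [← Matrix.mulVec_injective_iff_isUnit]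
  rw [← Matrix.coe_mulVecLin, injective_iff_map_eq_zero]
  intro v hv
  by_contra hv0
  apply hA
  have hall : ∀ B : Matrix ι ι ℂ, T A *ᵥ (B *ᵥ v) = 0 := by
    intro B
    have hB : B ∈ Submodule.span ℂ (Set.range S.L) := by rw [S.span_eq_top hq hf]; trivial
    induction hB using Submodule.span_induction with
    | mem x hx =>
      obtain ⟨u, rfl⟩ := hx
      rw [Matrix.mulVec_mulVec, hint, ← Matrix.mulVec_mulVec]
      rw [Matrix.mulVecLin_apply] at hv
      rw [hv, Matrix.mulVec_zero]
    | zero => rw [Matrix.zero_mulVec, Matrix.mulVec_zero]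
    | add x y _ _ hx hy => rw [Matrix.add_mulVec, Matrix.mulVec_add, hx, hy, add_zero]
    | smul a x _ hx => rw [Matrix.smul_mulVec, Matrix.mulVec_smul, hx, smul_zero]
  obtain ⟨j, hj⟩ : ∃ j, v j ≠ 0 := by
    by_contra! h
    exact hv0 (funext h)
  ext i k
  have h3 := congrFun (hall (Matrix.single k j 1)) i
  simp [Matrix.mulVec, dotProduct, Matrix.single_apply, ite_and, ite_mul, mul_ite] at h3
  exact h3.resolve_right hj

/-- Existence of a full system. -/
theorem exists_sys (hq : ND q) : ∃ (n : ℕ) (S : Sys q (Fin n)), S.Full := by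
  classical
  let R : U → Module.End ℂ (U → ℂ) := fun u =>
    { toFun := fun f y => e (q u (y - u)) * f (y - u)
      map_add' := fun f g => funext fun y => by simp [mul_add]
      map_smul' := fun c f => funext fun y => by simp [mul_left_comm] }
  have hR : ∀ u w, R u * R w = e (q u w) • R (u + w) := by
    intro u w
    refine LinearMap.ext fun f => funext fun y => ?_
    simp only [Module.End.mul_apply, R, LinearMap.coe_mk, AddHom.coe_mk, LinearMap.smul_apply,
      Pi.smul_apply, smul_eq_mul]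
    rw [← mul_assoc, ← mul_assoc, ← e_add, ← e_add, sub_sub,
      show y - u = w + (y - (u + w)) by abel]
    congr 2
    simp only [map_add, AddMonoidHom.add_apply, sub_eq_add_neg, map_neg]
    abel
  have hR0 : R 0 = 1 := LinearMap.ext fun f => funext fun y => by simp [R, e_zero]
  -- a minimal invariant subspace
  have hex : ∃ n, ∃ W : Submodule ℂ (U → ℂ), W ≠ ⊥ ∧ (∀ u, ∀ x ∈ W, R u x ∈ W) ∧
      Module.finrank ℂ W = n := ⟨_, ⊤, by
    intro h
    have : (fun _ => (1 : ℂ)) ∈ (⊥ : Submodule ℂ (U → ℂ)) := h ▸ Submodule.mem_top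
    exact one_ne_zero (congrFun ((Submodule.mem_bot ℂ).mp this) 0),
    fun _ _ _ => Submodule.mem_top, rfl⟩
  obtain ⟨W, hW0, hWinv, hWn⟩ := Nat.find_spec hex
  have hmin : ∀ W' : Submodule ℂ (U → ℂ), W' ≤ W → W' ≠ ⊥ → (∀ u, ∀ x ∈ W', R u x ∈ W') →
      W' = W := by
    intro W' hle h0 hinv
    refine Submodule.eq_of_le_of_finrank_le hle ?_
    rw [hWn]
    exact Nat.find_min' hex ⟨W', h0, hinv, rfl⟩
  let n := Module.finrank ℂ W
  let b := Module.finBasis ℂ W
  let φ := LinearMap.toMatrixAlgEquiv b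
  let Rr : U → Module.End ℂ W := fun u => (R u).restrict (hWinv u)
  have hRr : ∀ u w, Rr u * Rr w = e (q u w) • Rr (u + w) := fun u w =>
    LinearMap.ext fun x => Subtype.ext (LinearMap.congr_fun (hR u w) (x : U → ℂ))
  have hRr0 : Rr 0 = 1 := LinearMap.ext fun x => Subtype.ext (LinearMap.congr_fun hR0 (x : U → ℂ))
  have hnt : Nontrivial W := Submodule.nontrivial_iff_ne_bot.mpr hW0
  have hpos : 0 < Fintype.card (Fin n) := by
    rw [Fintype.card_fin]; exact Module.finrank_pos
  let S : Sys q (Fin n) :=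
    { L := fun u => φ (Rr u)
      map_mul := fun u w => by rw [← map_mul, hRr, map_smul]
      map_zero := by rw [hRr0, map_one]
      pos := hpos }
  refine ⟨n, S, ?_⟩
  -- Schur
  have hschur : ∀ C : Matrix (Fin n) (Fin n) ℂ, (∀ u, Commute C (S.L u)) → ∃ c : ℂ, C = c • 1 := by
    intro C hC
    let C' := φ.symm C
    have hC' : ∀ u, Commute C' (Rr u) := fun u => by
      have := (hC u).map φ.symm
      simpa [S] using this
    obtain ⟨c, hc⟩ := Module.End.exists_eigenvalue C'
    refine ⟨c, ?_⟩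
    let K := (Module.End.eigenspace C' c).map W.subtype
    have hK : K = W := by
      refine hmin K (Submodule.map_subtype_le _ _) ?_ ?_
      · intro h
        apply hc
        rw [eq_bot_iff]
        intro x hx
        have : (x : U → ℂ) ∈ K := ⟨x, hx, rfl⟩
        rw [h] at this
        exact (Submodule.mem_bot ℂ).mpr (Subtype.ext ((Submodule.mem_bot ℂ).mp this))
      · rintro u _ ⟨x, hx, rfl⟩
        refine ⟨Rr u x, ?_, rfl⟩
        simp only [SetLike.mem_coe, Module.End.mem_eigenspace_iff] at hx ⊢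
        rw [← Module.End.mul_apply, (hC' u).eq, Module.End.mul_apply, hx, map_smul]
    have hall : C' = c • 1 := LinearMap.ext fun x => by
      have : (x : U → ℂ) ∈ K := hK.symm ▸ x.2
      obtain ⟨y, hy, hxy⟩ := this
      have : y = x := Subtype.ext hxy
      subst this
      simpa [Module.End.mem_eigenspace_iff] using hy
    have := congrArg φ hall
    simpa [C', map_smul] using this
  -- completeness gives the dimension
  have hcomp : ∀ A : Matrix (Fin n) (Fin n) ℂ,
      (n : ℂ) • (∑ u, S.L u * A * S.Linv u) = ((Fintype.card U : ℂ) * trace A) • 1 := by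
    intro A
    obtain ⟨c, hc⟩ := hschur (∑ u, S.L u * A * S.Linv u) (fun u => by
      have h1 : S.L u * (∑ w, S.L w * A * S.Linv w) * S.Linv u = ∑ w, S.L w * A * S.Linv w := by
        simp only [Finset.mul_sum, Finset.sum_mul]
        refine Fintype.sum_equiv (Equiv.addLeft u) _ _ (fun w => ?_)
        simp only [Equiv.coe_addLeft]
        rw [show S.L u * (S.L w * A * S.Linv w) * S.Linv u
            = (S.L u * S.L w) * A * (S.Linv w * S.Linv u) by simp only [mul_assoc],
          S.map_mul, S.Linv_mul_Linv, Matrix.smul_mul, Matrix.smul_mul, Matrix.mul_smul, smul_smul,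
          mul_inv_cancel₀ (e_ne_zero _), one_smul]
      change (∑ w, S.L w * A * S.Linv w) * S.L u = S.L u * ∑ w, S.L w * A * S.Linv w
      conv_lhs => rw [← h1]
      rw [mul_assoc, mul_assoc, S.Linv_mul, mul_one])
    have h2 := congrArg trace hc
    simp only [trace_sum, trace_mul_comm (_ * A), ← mul_assoc, S.Linv_mul, one_mul, Finset.sum_const,
      Finset.card_univ, nsmul_eq_mul, trace_smul, trace_one, Fintype.card_fin, smul_eq_mul] at h2
    rw [hc, smul_smul, h2, mul_comm]
  have hsum : ∀ i k, (n : ℂ) * ∑ u, S.L u i i * S.Linv u k k = if i = k then (Fintype.card U : ℂ) else 0 := by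
    intro i k
    have h1 := congrFun (congrFun (hcomp (Matrix.single i k 1)) i) k
    simp [Matrix.sum_apply, Matrix.mul_apply, Matrix.single_apply, ite_and, mul_ite, ite_mul,
      Matrix.one_apply, trace] at h1
    rw [h1]
    rcases eq_or_ne i k with rfl | hne <;> simp [*]
  have htot : (n : ℂ) * ∑ u, trace (S.L u) * trace (S.Linv u) = (n : ℂ) * (Fintype.card U : ℂ) := by
    have h2 : ∑ u, trace (S.L u) * trace (S.Linv u) =
        ∑ i, ∑ k, ∑ u, S.L u i i * S.Linv u k k := by
      simp only [trace, diag_apply, Finset.sum_mul_sum]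
      rw [Finset.sum_comm]
      exact Finset.sum_congr rfl fun i _ => Finset.sum_comm
    rw [h2, Finset.mul_sum, Finset.sum_congr rfl fun i _ => Finset.mul_sum _ _ _]
    simp [hsum]
  have hn0 : (n : ℂ) ≠ 0 := Nat.cast_ne_zero.mpr (by simpa using hpos.ne')
  have htot' := mul_left_cancel₀ hn0 htot
  rw [Finset.sum_eq_single (0 : U) (fun u _ hu => by rw [S.trace_L_ne hq hu, zero_mul])
    (fun h => absurd (Finset.mem_univ _) h)] at htot'
  simp only [Sys.Linv, map_zero, AddMonoidHom.zero_apply, neg_zero, e_zero, one_smul,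
    S.map_zero, trace_one] at htot'
  change Fintype.card (Fin n) * Fintype.card (Fin n) = Fintype.card U
  exact_mod_cast htot'

/-- The product of two cocycles. -/
def sq (q : U →+ U →+ ZMod p) : U × U →+ U × U →+ ZMod p where
  toFun x :=
    { toFun := fun y => q x.1 y.1 + q x.2 y.2
      map_zero' := by simp
      map_add' := fun y z => by simp [add_add_add_comm] }
  map_zero' := by ext y <;> simp
  map_add' := fun x y => by ext z <;> simp <;> ring

omit [Fintype U] [DecidableEq U] in
theorem sq_apply (q : U →+ U →+ ZMod p) (x y : U × U) : sq q x y = q x.1 y.1 + q x.2 y.2 := rfl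

variable {H : Type*} [Group H] [Finite H]

/-- The character attached to a nondegenerate alternating commutator form. -/
theorem exists_char (a : H →* AddMonoid.End U) (hinv : ∀ h u w, q (a h u) (a h w) = q u w) (hq : ND q)
    (hUp : ∀ u : U, p • u = 0) (hcop : (Nat.card H).Coprime (Fintype.card U)) :
    ∃ χ : H → ℂ, Cfsg.IsCharacter H χ ∧
      (∀ h, (Complex.normSq (χ h) : ℝ) = (Nat.card {u : U // a h u = u} : ℝ)) ∧
      ∀ h, ∃ l : ℂ, l ^ Nat.card H = 1 ∧
        χ h ^ 4 = l * (Nat.card {u : U // a h u = u} : ℂ) ^ 2 := by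
  classical
  have := Fintype.ofFinite H
  obtain ⟨d, S, hf⟩ := exists_sys hq
  have hd0 : 0 < d := by simpa using S.pos
  haveI : Nonempty (Fin d) := ⟨⟨0, hd0⟩⟩
  have hdU : d * d = Fintype.card U := by simpa [Sys.Full] using hf
  -- intertwiners of determinant one
  have hM : ∀ h, ∃ M : Matrix (Fin d) (Fin d) ℂ, M.det = 1 ∧ ∀ u, M * S.L u = S.L (a h u) * M := by
    intro h
    let S' : Sys q (Fin d) :=
      { L := fun u => S.L (a h u)
        map_mul := fun u w => by rw [S.map_mul, map_add, hinv]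
        map_zero := by rw [map_zero, S.map_zero]
        pos := S.pos }
    obtain ⟨M, hMu, hMi⟩ := exists_intertwiner hq S S' hf
    have hdet : M.det ≠ 0 := ((Matrix.isUnit_iff_isUnit_det M).mp hMu).ne_zero
    obtain ⟨z, hz⟩ := IsAlgClosed.exists_pow_nat_eq (M.det)⁻¹ hd0
    refine ⟨z • M, ?_, fun u => ?_⟩
    · rw [Matrix.det_smul, Fintype.card_fin, hz, inv_mul_cancel₀ hdet]
    · rw [Matrix.smul_mul, hMi u, Matrix.mul_smul]
  choose M hdet hMint using hM
  have hunit : ∀ h, IsUnit (M h) := fun h => (Matrix.isUnit_iff_isUnit_det _).mpr (by simp [hdet h])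
  have hc : ∀ g h, ∃ c : ℂ, c ^ d = 1 ∧ M g * M h = c • M (g * h) := by
    intro g h
    obtain ⟨N, hN⟩ := hunit (g * h)
    obtain ⟨c, hc⟩ := S.scalar_of_commute hq hf (C := (↑N⁻¹ : Matrix (Fin d) (Fin d) ℂ) * (M g * M h))
      (fun u => by
        have e1 : (M g * M h) * S.L u = S.L (a (g * h) u) * (M g * M h) := by
          rw [mul_assoc, hMint h u, ← mul_assoc, hMint g, mul_assoc, map_mul]
          rfl
        have e2 : S.L u * (↑N⁻¹ : Matrix (Fin d) (Fin d) ℂ) =
            (↑N⁻¹ : Matrix (Fin d) (Fin d) ℂ) * S.L (a (g * h) u) := by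
          calc S.L u * (↑N⁻¹ : Matrix (Fin d) (Fin d) ℂ)
              = ↑N⁻¹ * (↑N * S.L u) * ↑N⁻¹ := by rw [← mul_assoc, Units.inv_mul, one_mul]
            _ = ↑N⁻¹ * (S.L (a (g * h) u) * ↑N) * ↑N⁻¹ := by rw [hN, hMint]
            _ = ↑N⁻¹ * S.L (a (g * h) u) := by rw [mul_assoc, mul_assoc, Units.mul_inv, mul_one]
        rw [commute_iff_eq]
        rw [mul_assoc, e1, ← mul_assoc, ← e2, mul_assoc])
    have h2 : M g * M h = c • M (g * h) := by
      have := congrArg (fun A => (↑N : Matrix (Fin d) (Fin d) ℂ) * A) hc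
      simp only [← mul_assoc, Units.mul_inv, one_mul, Matrix.mul_smul, mul_one] at this
      rw [← hN]; simpa [mul_assoc] using this
    refine ⟨c, ?_, h2⟩
    have := congrArg Matrix.det h2
    rw [Matrix.det_mul, Matrix.det_smul, hdet, hdet, hdet, Fintype.card_fin, one_mul, mul_one] at this
    exact this.symm
  choose c hcd hcM using hc
  have hcocycle : ∀ g h k, c g h * c (g * h) k = c h k * c g (h * k) := by
    intro g h k
    have e1 : M g * M h * M k = (c g h * c (g * h) k) • M (g * h * k) := by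
      rw [hcM, Matrix.smul_mul, hcM, smul_smul]
    have e2 : M g * (M h * M k) = (c h k * c g (h * k)) • M (g * (h * k)) := by
      rw [hcM, Matrix.mul_smul, hcM, smul_smul]
    rw [mul_assoc, e2, mul_assoc g h k] at e1
    have := congrArg Matrix.det e1
    by_contra hne
    have e3 : (c h k * c g (h * k) - c g h * c (g * h) k) • M (g * (h * k)) = 0 := by
      rw [sub_smul, e1, sub_self]
    rcases smul_eq_zero.mp e3 with e4 | e4
    · exact hne (sub_eq_zero.mp e4).symm
    · exact (hunit _).ne_zero e4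
  have hdcop : (Nat.card H).Coprime d := hcop.coprime_dvd_right (hdU ▸ dvd_mul_right d d)
  obtain ⟨ex, hex⟩ : ∃ ex : ℕ, d ∣ Nat.card H * ex + (d - 1) := by
    haveI : NeZero d := ⟨hd0.ne'⟩
    refine ⟨((Nat.card H : ZMod d)⁻¹).val, ?_⟩
    rw [← ZMod.natCast_eq_zero_iff, Nat.cast_add, Nat.cast_mul, ZMod.natCast_zmod_val,
      ZMod.coe_mul_inv_eq_one _ hdcop, ← Nat.cast_one, ← Nat.cast_add, Nat.add_comm,
      Nat.sub_add_cancel hd0, ZMod.natCast_self]
  let f : H → ℂ := fun g => ∏ k, c g k
  have hc0 : ∀ g h, c g h ≠ 0 := fun g h h0 => by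
    have := hcd g h; rw [h0, zero_pow hd0.ne'] at this; exact zero_ne_one this
  have hf0 : ∀ g, f g ≠ 0 := fun g => Finset.prod_ne_zero_iff.mpr fun k _ => hc0 g k
  have hfc : ∀ g h, c g h ^ Nat.card H * f (g * h) = f h * f g := by
    intro g h
    simp only [f]
    rw [Nat.card_eq_fintype_card, ← Finset.card_univ, ← Finset.prod_const, ← Finset.prod_mul_distrib,
      Finset.prod_congr rfl fun k _ => hcocycle g h k, Finset.prod_mul_distrib]
    congr 1
    exact Fintype.prod_equiv (Equiv.mulLeft h) _ _ (fun k => rfl)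
  have hcf : ∀ g h, c g h * (f g ^ ex * f h ^ ex)⁻¹ = (f (g * h) ^ ex)⁻¹ * (c g h ^ d) ^ 0 := by
    intro g h
    obtain ⟨m, hm⟩ := hex
    have e1 : c g h ^ (Nat.card H * ex) = c g h := by
      have e2 : c g h ^ (Nat.card H * ex) * c g h ^ (d - 1) = 1 := by
        rw [← pow_add, hm, pow_mul, hcd, one_pow]
      have e3 : c g h * c g h ^ (d - 1) = 1 := by
        rw [← pow_succ', Nat.sub_add_cancel hd0, hcd]
      exact mul_right_cancel₀ (pow_ne_zero _ (hc0 g h)) (e2.trans e3.symm)
    have e4 : (f g * f h) ^ ex = c g h * f (g * h) ^ ex := by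
      rw [mul_comm (f g), ← hfc g h, mul_pow, ← pow_mul, e1]
    rw [← mul_pow, e4, pow_zero, mul_one, mul_inv]
    rw [← mul_assoc, mul_inv_cancel₀ (hc0 g h), one_mul]
  let R : H → Matrix (Fin d) (Fin d) ℂ := fun h => (f h ^ ex)⁻¹ • M h
  have hRmul : ∀ g h, R g * R h = R (g * h) := by
    intro g h
    simp only [R, Matrix.smul_mul, Matrix.mul_smul, smul_smul, hcM]
    congr 1
    have e1 := hcf g h
    rw [mul_inv, pow_zero, mul_one] at e1
    linear_combination e1
  have hRunit : ∀ h, IsUnit (R h) := fun h => (Matrix.isUnit_iff_isUnit_det _).mpr (by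
    simp only [R, Matrix.det_smul, hdet, mul_one]
    exact (pow_ne_zero _ (inv_ne_zero (pow_ne_zero _ (hf0 h)))).isUnit)
  have hR1 : R 1 = 1 := by
    have e1 : R 1 * R 1 = R 1 * 1 := by rw [mul_one, hRmul, mul_one]
    exact (hRunit 1).mul_left_cancel e1
  have hRint : ∀ h u, R h * S.L u = S.L (a h u) * R h := fun h u => by
    simp only [R, Matrix.smul_mul, Matrix.mul_smul, hMint]
  let ρ : Representation ℂ H (Fin d → ℂ) :=
    { toFun := fun h => Matrix.toLinAlgEquiv' (R h)
      map_one' := by rw [hR1, map_one]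
      map_mul' := fun g h => by rw [← map_mul, hRmul] }
  have hρ : ∀ h, ρ.character h = trace (R h) := fun h => Matrix.trace_toLin'_eq (R h)
  have hRinv : ∀ h, R h * R h⁻¹ = 1 := fun h => by rw [hRmul, mul_inv_cancel, hR1]
  have hconj : ∀ h, trace (R h⁻¹) = conj (trace (R h)) := fun h => by
    rw [← hρ, ← hρ]; exact Cfsg.Agent.Lib.Characters.Diag.char_inv_eq_conj ρ h
  -- completeness
  have hcomp : ∀ A : Matrix (Fin d) (Fin d) ℂ,
      (∑ u, S.L u * A * S.Linv u) = ((d : ℂ) * trace A) • 1 := by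
    intro A
    obtain ⟨t, ht⟩ := S.scalar_of_commute hq hf (C := ∑ u, S.L u * A * S.Linv u) (fun u => by
      have h1 : S.L u * (∑ w, S.L w * A * S.Linv w) * S.Linv u = ∑ w, S.L w * A * S.Linv w := by
        simp only [Finset.mul_sum, Finset.sum_mul]
        refine Fintype.sum_equiv (Equiv.addLeft u) _ _ (fun w => ?_)
        simp only [Equiv.coe_addLeft]
        rw [show S.L u * (S.L w * A * S.Linv w) * S.Linv u
            = (S.L u * S.L w) * A * (S.Linv w * S.Linv u) by simp only [mul_assoc],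
          S.map_mul, S.Linv_mul_Linv, Matrix.smul_mul, Matrix.smul_mul, Matrix.mul_smul, smul_smul,
          mul_inv_cancel₀ (e_ne_zero _), one_smul]
      change (∑ w, S.L w * A * S.Linv w) * S.L u = S.L u * ∑ w, S.L w * A * S.Linv w
      conv_lhs => rw [← h1]
      rw [mul_assoc, mul_assoc, S.Linv_mul, mul_one])
    have h2 := congrArg trace ht
    simp only [trace_sum, trace_mul_comm (_ * A), ← mul_assoc, S.Linv_mul, one_mul, Finset.sum_const,
      Finset.card_univ, nsmul_eq_mul, trace_smul, trace_one, Fintype.card_fin, smul_eq_mul,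
      ← hdU, Nat.cast_mul] at h2
    rw [ht]
    congr 1
    have hdC : (d : ℂ) ≠ 0 := Nat.cast_ne_zero.mpr hd0.ne'
    apply mul_right_cancel₀ hdC
    linear_combination -h2
  have hdC : (d : ℂ) ≠ 0 := Nat.cast_ne_zero.mpr hd0.ne'
  have hnorm : ∀ h, trace (R h) * conj (trace (R h)) = (Nat.card {u : U // a h u = u} : ℂ) := by
    intro h
    have h1 : ∑ u, trace (R h * S.L u * R h⁻¹ * S.Linv u) =
        (d : ℂ) * (trace (R h) * trace (R h⁻¹)) := by
      rw [← trace_sum]
      have : ∀ u, R h * S.L u * R h⁻¹ * S.Linv u = R h * (S.L u * R h⁻¹ * S.Linv u) := fun u => by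
        simp only [mul_assoc]
      simp only [this, ← Finset.mul_sum, hcomp, Matrix.mul_smul, mul_one, trace_smul, smul_eq_mul]
      ring
    have h2 : ∑ u, trace (R h * S.L u * R h⁻¹ * S.Linv u) =
        (d : ℂ) * (Nat.card {u : U // a h u = u} : ℂ) := by
      have : ∀ u, R h * S.L u * R h⁻¹ = S.L (a h u) := fun u => by
        rw [hRint, mul_assoc, hRinv, mul_one]
      simp only [this, S.trace_mul_Linv hq, Fintype.card_fin, ← Finset.sum_filter, Finset.sum_const,
        nsmul_eq_mul]
      rw [Nat.card_eq_fintype_card, Fintype.card_subtype, mul_comm]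
    rw [← hconj]
    exact mul_left_cancel₀ hdC (h1.symm.trans h2)
  refine ⟨ρ.character, Cfsg.Agent.Lib.Characters.Basic.isCharacter_character ρ, fun h => ?_,
    fun h => ?_⟩
  · have := hnorm h
    rw [Complex.mul_conj] at this
    rw [hρ]
    exact_mod_cast this
  -- the fourth power
  obtain ⟨α, β, hab⟩ := ZMod.sq_add_sq p (-1 : ZMod p)
  let Φ : U × U → U × U := fun z => (α.val • z.1 + β.val • z.2, α.val • z.2 - β.val • z.1)
  have hΦsq : ∀ x y, sq q (Φ x) (Φ y) = - sq q x y := by
    intro x y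
    simp only [Φ, sq_apply, map_add, map_sub, map_nsmul, AddMonoidHom.add_apply,
      AddMonoidHom.sub_apply, AddMonoidHom.coe_smul, Pi.smul_apply, nsmul_eq_mul,
      ZMod.natCast_val, ZMod.cast_id', id_eq]
    linear_combination (q x.1 y.1 + q x.2 y.2) * hab
  have hΦadd : ∀ x y, Φ (x + y) = Φ x + Φ y := fun x y => by
    ext <;> simp [Φ, smul_add] <;> abel
  have hsqND : ND (-sq q) := by
    intro u hu
    refine Prod.ext (hq u.1 fun w => ?_) (hq u.2 fun w => ?_)
    · have := hu (w, 0)
      simpa [sq_apply] using this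
    · have := hu (0, w)
      simpa [sq_apply] using this
  let L2 : U × U → Matrix (Fin d × Fin d) (Fin d × Fin d) ℂ := fun z => S.L z.1 ⊗ₖ S.L z.2
  let L2i : U × U → Matrix (Fin d × Fin d) (Fin d × Fin d) ℂ := fun z => S.Linv z.1 ⊗ₖ S.Linv z.2
  let SΦ : Sys (-sq q) (Fin d × Fin d) :=
    { L := fun z => L2 (Φ z)
      map_mul := fun x y => by
        simp only [L2, ← Matrix.mul_kronecker_mul, S.map_mul, Matrix.smul_kronecker,
          Matrix.kronecker_smul, smul_smul, ← e_add, AddMonoidHom.neg_apply, hΦadd, Prod.fst_add,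
          Prod.snd_add]
        congr 2
        rw [← hΦsq, sq_apply, add_comm]
      map_zero := by simp [L2, Φ, S.map_zero]
      pos := by simpa using Nat.mul_pos hd0 hd0 }
  let Sd : Sys (-sq q) (Fin d × Fin d) :=
    { L := fun z => (L2i z)ᵀ
      map_mul := fun x y => by
        rw [← Matrix.transpose_mul, ← Matrix.transpose_smul]
        congr 1
        simp only [L2i, ← Matrix.mul_kronecker_mul, S.Linv_mul_Linv, Matrix.smul_kronecker,
          Matrix.kronecker_smul, smul_smul, Prod.fst_add, Prod.snd_add]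
        congr 1
        rw [← mul_inv, ← e_add, AddMonoidHom.neg_apply, AddMonoidHom.neg_apply, sq_apply]
        refine inv_eq_of_mul_eq_one_right ?_
        rw [← e_add, ← e_zero (p := p)]
        congr 1
        ring
      map_zero := by simp [L2i, Sys.Linv, S.map_zero, e_zero]
      pos := by simpa using Nat.mul_pos hd0 hd0 }
  have hfull2 : SΦ.Full := by
    change Fintype.card (Fin d × Fin d) * Fintype.card (Fin d × Fin d) = Fintype.card (U × U)
    simp [hdU]
  obtain ⟨K, hKu, hK⟩ := exists_intertwiner hsqND SΦ Sd hfull2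
  obtain ⟨K', hK'⟩ := hKu
  let R2 : H → Matrix (Fin d × Fin d) (Fin d × Fin d) ℂ := fun h => R h ⊗ₖ R h
  let R2d : H → Matrix (Fin d × Fin d) (Fin d × Fin d) ℂ := fun h => (R h⁻¹ ⊗ₖ R h⁻¹)ᵀ
  have hR2mul : ∀ g h, R2 g * R2 h = R2 (g * h) := fun g h => by
    simp [R2, ← Matrix.mul_kronecker_mul, hRmul]
  have hR2dmul : ∀ g h, R2d g * R2d h = R2d (g * h) := fun g h => by
    simp [R2d, ← Matrix.transpose_mul, ← Matrix.mul_kronecker_mul, hRmul]
  have hR2_1 : R2 1 = 1 := by simp [R2, hR1]
  have hR2d_1 : R2d 1 = 1 := by simp [R2d, hR1]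
  let az : H → U × U → U × U := fun h z => (a h z.1, a h z.2)
  have hΦa : ∀ h z, Φ (az h z) = az h (Φ z) := fun h z => by simp [Φ, az, map_add, map_sub, map_nsmul]
  have hR2int : ∀ h z, R2 h * L2 (Φ z) = L2 (Φ (az h z)) * R2 h := fun h z => by
    rw [hΦa]
    simp [R2, L2, az, ← Matrix.mul_kronecker_mul, hRint]
  have hLinvint : ∀ g u, R g * S.Linv u = S.Linv (a g u) * R g := fun g u => by
    simp only [Sys.Linv, Matrix.mul_smul, Matrix.smul_mul, hRint, map_neg, hinv]
  have hR2dint : ∀ h z, R2d h * (L2i z)ᵀ = (L2i (az h z))ᵀ * R2d h := fun h z => by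
    simp only [R2d, L2i, az, ← Matrix.transpose_mul, ← Matrix.mul_kronecker_mul]
    congr 1
    have e1 : ∀ u, R h⁻¹ * S.Linv (a h u) = S.Linv u * R h⁻¹ := fun u => by
      rw [hLinvint]
      congr 2
      change (a h⁻¹ * a h) u = u
      rw [← map_mul, inv_mul_cancel, map_one]
      rfl
    rw [e1, e1]
  -- the comparison scalar
  let Ki : Matrix (Fin d × Fin d) (Fin d × Fin d) ℂ :=
    ((K'⁻¹ : (Matrix (Fin d × Fin d) (Fin d × Fin d) ℂ)ˣ) : Matrix (Fin d × Fin d) (Fin d × Fin d) ℂ)
  have hKi1 : Ki * K = 1 := by rw [← hK']; exact K'.inv_mul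
  have hKi2 : K * Ki = 1 := by rw [← hK']; exact K'.mul_inv
  have hKinv : ∀ z, Ki * Sd.L z = SΦ.L z * Ki := fun z => by
    calc Ki * Sd.L z = Ki * (Sd.L z * K) * Ki := by rw [mul_assoc, mul_assoc, hKi2, mul_one]
      _ = Ki * (K * SΦ.L z) * Ki := by rw [hK]
      _ = SΦ.L z * Ki := by rw [← mul_assoc, hKi1, one_mul]
  obtain ⟨l, hl⟩ : ∃ l : ℂ, K * R2 h = l • (R2d h * K) := by
    let C : Matrix (Fin d × Fin d) (Fin d × Fin d) ℂ := Ki * (R2d h⁻¹ * (K * R2 h))
    obtain ⟨l, hl⟩ := SΦ.scalar_of_commute hsqND hfull2 (C := C) (fun z => by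
      have ez : az h⁻¹ (az h z) = z := by
        have e1 : ∀ u, a h⁻¹ (a h u) = u := fun u => by
          change (a h⁻¹ * a h) u = u
          rw [← map_mul, inv_mul_cancel, map_one]
          rfl
        simp [az, e1]
      have eA : R2 h * SΦ.L z = SΦ.L (az h z) * R2 h := hR2int h z
      have eB : R2d h⁻¹ * Sd.L (az h z) = Sd.L z * R2d h⁻¹ := by
        have := hR2dint h⁻¹ (az h z)
        rw [ez] at this
        exact this
      rw [commute_iff_eq]
      calc C * SΦ.L z = Ki * (R2d h⁻¹ * (K * (R2 h * SΦ.L z))) := by simp only [C, mul_assoc]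
        _ = Ki * (R2d h⁻¹ * (K * SΦ.L (az h z) * R2 h)) := by rw [eA]; simp only [mul_assoc]
        _ = Ki * ((R2d h⁻¹ * Sd.L (az h z)) * (K * R2 h)) := by rw [hK]; simp only [mul_assoc]
        _ = (Ki * Sd.L z) * (R2d h⁻¹ * (K * R2 h)) := by rw [eB]; simp only [mul_assoc]
        _ = SΦ.L z * C := by rw [hKinv]; simp only [C, mul_assoc])
    refine ⟨l, ?_⟩
    calc K * R2 h = R2d h * ((K * Ki) * (R2d h⁻¹ * (K * R2 h))) := by
          rw [hKi2, one_mul, ← mul_assoc, hR2dmul, mul_inv_cancel, hR2d_1, one_mul]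
      _ = R2d h * (K * C) := by simp only [C, mul_assoc]
      _ = l • (R2d h * K) := by rw [hl, Matrix.mul_smul, mul_one, Matrix.mul_smul]
  refine ⟨l, ?_, ?_⟩
  · have hpow : ∀ n : ℕ, K * R2 (h ^ n) = l ^ n • (R2d (h ^ n) * K) := by
      intro n
      induction n with
      | zero => simp [hR2_1, hR2d_1]
      | succ n ih =>
        rw [pow_succ h, ← hR2mul, ← mul_assoc, ih, Matrix.smul_mul, mul_assoc, hl, Matrix.mul_smul,
          smul_smul, ← pow_succ, ← mul_assoc, hR2dmul]
    have e1 := hpow (Nat.card H)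
    rw [pow_card_eq_one', hR2_1, hR2d_1, mul_one, one_mul] at e1
    have e2 : (1 - l ^ Nat.card H) • K = 0 := by rw [sub_smul, one_smul, ← e1, sub_self]
    rcases smul_eq_zero.mp e2 with e3 | e3
    · exact (sub_eq_zero.mp e3).symm
    · exfalso
      have hne : Nonempty (Fin d × Fin d) := ⟨(⟨0, hd0⟩, ⟨0, hd0⟩)⟩
      exact (hK' ▸ K'.isUnit : IsUnit K).ne_zero e3
  · have e1 : trace (R2 h) = l * trace (R2d h) := by
      calc trace (R2 h) = trace (Ki * (K * R2 h)) := by rw [← mul_assoc, hKi1, one_mul]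
        _ = l * trace (R2d h) := by
            rw [hl, Matrix.mul_smul, trace_smul, trace_mul_comm, mul_assoc, hKi2, mul_one,
              smul_eq_mul]
    simp only [R2, R2d, trace_transpose, Matrix.trace_kronecker, hconj] at e1
    rw [hρ]
    linear_combination (trace (R h) * trace (R h)) * e1 +
      (l * (trace (R h) * conj (trace (R h)) + (Nat.card {u : U // a h u = u} : ℂ))) * hnorm h

end Cfsg.Agent.Lib.GaloisMean.Weil
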