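import Mathlib
import Cfsg.Agent.Lib.GaloisMean.Weil

/-!
# Gauss sums over fixed points

For a nondegenerate symmetric invariant form, the Gauss sums over the fixed point groups form
a character of `H × ZMod p` with squared absolute value the number of fixed points.
-/

namespace Cfsg.Agent.Lib.GaloisMean.Gauss

open scoped ComplexConjugate
open Cfsg.Agent.Lib.GaloisMean.Weil

variable {p : ℕ} [Fact p.Prime] {U : Type*} [AddCommGroup U] [Fintype U] [DecidableEq U]
  {q : U →+ U →+ ZMod p}

/-- Gauss sum on a subgroup. -/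
noncomputable def gauss (q : U →+ U →+ ZMod p) (C : AddSubgroup U) (c : ZMod p) : ℂ :=
  open Classical in ∑ x : C, e (c * q x x)

theorem gauss_mul_conj (hsym : ∀ x y, q x y = q y x) (hp2 : p ≠ 2) (C : AddSubgroup U)
    (hC : ∀ x ∈ C, (∀ y ∈ C, q x y = 0) → x = 0) {c : ZMod p} (hc : c ≠ 0) :
    gauss q C c * conj (gauss q C c) = (Nat.card C : ℂ) := by
  classical
  have h2 : (2 : ZMod p) ≠ 0 := by
    intro h
    exact hp2 ((Nat.prime_dvd_prime_iff_eq (Fact.out : p.Prime) Nat.prime_two).mp
      ((ZMod.natCast_eq_zero_iff 2 p).mp (by exact_mod_cast h)))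
  simp only [gauss, map_sum, conj_e, Finset.sum_mul_sum, ← e_add]
  rw [Finset.sum_comm]
  have h1 : ∀ y : C, ∑ x : C, e (c * q x x + -(c * q y y)) =
      ∑ z : C, e (c * q z z) * e (2 * c * q z y) := by
    intro y
    refine (Fintype.sum_equiv (Equiv.addRight y) _ _ (fun z => ?_)).symm
    rw [← e_add]
    congr 1
    simp only [Equiv.coe_addRight, AddSubgroup.coe_add, map_add, AddMonoidHom.add_apply,
      hsym (y : U) z]
    ring
  rw [Finset.sum_congr rfl fun y _ => h1 y, Finset.sum_comm]
  have h3 : ∀ z : C, ∑ y : C, e (2 * c * q z y) = if z = 0 then (Nat.card C : ℂ) else 0 := by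
    intro z
    let φ : AddChar C ℂ :=
      { toFun := fun y => e (2 * c * q z y)
        map_zero_eq_one' := by simp [e_zero]
        map_add_eq_mul' := fun a b => by simp [mul_add, e_add] }
    have := AddChar.sum_eq_ite φ
    simp only [φ, AddChar.coe_mk] at this
    rw [this]
    by_cases hz : z = 0
    · subst hz
      rw [if_pos rfl, if_pos, Nat.card_eq_fintype_card]
      ext y
      simp [e_zero]
    · rw [if_neg hz, if_neg]
      intro hφ
      apply hz
      refine Subtype.ext (hC z z.2 fun y hy => ?_)
      have h4 : e (2 * c * q z y) = 1 := DFunLike.congr_fun hφ (⟨y, hy⟩ : C)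
      rw [e_eq_one_iff] at h4
      exact (mul_eq_zero.mp h4).resolve_left (mul_ne_zero h2 hc)
  simp only [← Finset.mul_sum, h3, mul_ite, mul_zero, Finset.sum_ite_eq', Finset.mem_univ, if_true,
    ZeroMemClass.coe_zero, map_zero, AddMonoidHom.zero_apply, e_zero, one_mul]

theorem gauss_sq_real (hUp : ∀ u : U, p • u = 0) (C : AddSubgroup U) (c : ZMod p) :
    gauss q C c ^ 2 = conj (gauss q C c) ^ 2 := by
  classical
  obtain ⟨α, β, hab⟩ := ZMod.sq_add_sq p (-1 : ZMod p)
  let f : C × C → C × C := fun z => (α.val • z.1 + β.val • z.2, α.val • z.2 - β.val • z.1)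
  obtain ⟨m, hm⟩ : p ∣ (α.val * α.val + β.val * β.val) + 1 := by
    rw [← ZMod.natCast_eq_zero_iff]
    push_cast
    rw [ZMod.natCast_zmod_val, ZMod.natCast_zmod_val]
    linear_combination hab
  have hneg : ∀ u : C, (α.val * α.val + β.val * β.val) • u = -u := by
    intro u
    have : ((α.val * α.val + β.val * β.val) + 1) • u = 0 := by
      refine Subtype.ext ?_
      rw [hm, AddSubgroup.coe_nsmul, mul_comm, mul_smul, hUp, smul_zero, ZeroMemClass.coe_zero]
    rw [add_smul, one_smul] at this
    exact eq_neg_of_add_eq_zero_left this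
  have hf : Function.Injective f := by
    let g : C × C → C × C := fun w =>
      (-(α.val • w.1 - β.val • w.2), -(β.val • w.1 + α.val • w.2))
    refine Function.LeftInverse.injective (g := g) (fun z => ?_)
    simp only [g, f, smul_add, smul_sub, smul_smul, mul_comm β.val α.val]
    ext : 1
    · have := hneg z.1
      rw [add_smul] at this
      calc _ = -((α.val * α.val) • z.1 + (β.val * β.val) • z.1) := by abel
        _ = z.1 := by rw [this, neg_neg]
    · have := hneg z.2
      rw [add_smul] at this
      calc _ = -((α.val * α.val) • z.2 + (β.val * β.val) • z.2) := by abel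
        _ = z.2 := by rw [this, neg_neg]
  simp only [gauss, map_sum, conj_e, pow_two, Finset.sum_mul_sum, ← e_add, ← Fintype.sum_prod_type']
  refine (Fintype.sum_bijective f ⟨hf, Finite.surjective_of_injective hf⟩ _ _ (fun z => ?_)).symm
  congr 1
  simp only [f, AddSubgroup.coe_add, AddSubgroupClass.coe_sub,
    AddSubgroup.coe_nsmul, map_add, map_sub, map_nsmul, AddMonoidHom.add_apply,
    AddMonoidHom.sub_apply, AddMonoidHom.coe_smul, Pi.smul_apply, nsmul_eq_mul, Pi.mul_apply,
    Pi.natCast_apply, ZMod.natCast_zmod_val]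
  linear_combination (-(c * q z.1 z.1) - c * q z.2 z.2) * hab

variable {H : Type*} [Group H] [Finite H]

/-- The fixed points of one element. -/
def fix (a : H →* AddMonoid.End U) (h : H) : AddSubgroup U where
  carrier := {u | a h u = u}
  add_mem' := fun {x y} (hx : a h x = x) (hy : a h y = y) => by simp [hx, hy]
  zero_mem' := by simp
  neg_mem' := fun {x} (hx : a h x = x) => by simp [hx]

omit [DecidableEq U] in
theorem exists_char (a : H →* AddMonoid.End U) (hinv : ∀ h u w, q (a h u) (a h w) = q u w)
    (hsym : ∀ x y, q x y = q y x) (hnd : ∀ x, (∀ y, q x y = 0) → x = 0) (hp2 : p ≠ 2)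
    (hUp : ∀ u : U, p • u = 0) (hcop : ¬ p ∣ Nat.card H) :
    ∃ F : H × Multiplicative (ZMod p) → ℂ, Cfsg.IsCharacter (H × Multiplicative (ZMod p)) F ∧
      ∀ (h : H) (c : ZMod p), c ≠ 0 →
        F (h, Multiplicative.ofAdd c) * conj (F (h, Multiplicative.ofAdd c)) =
          (Nat.card {u : U // a h u = u} : ℂ) ∧
        F (h, Multiplicative.ofAdd c) ^ 4 = (Nat.card {u : U // a h u = u} : ℂ) ^ 2 := by
  classical
  have hcomp : ∀ g h u, a g (a h u) = a (g * h) u := fun g h u => by rw [map_mul]; rfl
  let ρ : Representation ℂ (H × Multiplicative (ZMod p)) (U → ℂ) :=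
    { toFun := fun k =>
        { toFun := fun f y => e (k.2.toAdd * q y y) * f (a k.1⁻¹ y)
          map_add' := fun f g => funext fun y => by simp [mul_add]
          map_smul' := fun c f => funext fun y => by simp [mul_left_comm] }
      map_one' := LinearMap.ext fun f => funext fun y => by simp [e_zero]
      map_mul' := fun k l => LinearMap.ext fun f => funext fun y => by
        simp only [LinearMap.coe_mk, AddHom.coe_mk, Module.End.mul_apply, Prod.fst_mul,
          Prod.snd_mul, mul_inv_rev, hcomp, toAdd_mul, add_mul, e_add, hinv]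
        ring }
  have hchar : ∀ h c, ρ.character (h, Multiplicative.ofAdd c) = gauss q (fix a h) c := by
    intro h c
    rw [Representation.character, LinearMap.trace_eq_matrix_trace ℂ (Pi.basisFun ℂ U),
      Matrix.trace]
    simp only [Matrix.diag_apply, LinearMap.toMatrix_apply, Pi.basisFun_apply, Pi.basisFun_repr]
    simp only [ρ, MonoidHom.coe_mk, OneHom.coe_mk, LinearMap.coe_mk, AddHom.coe_mk, toAdd_ofAdd,
      Pi.single_apply, mul_ite, mul_one, mul_zero]
    rw [← Finset.sum_filter, gauss]
    refine (Finset.sum_subtype _ (fun x => ?_) _)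
    simp only [Finset.mem_filter, Finset.mem_univ, true_and]
    change a h⁻¹ x = x ↔ a h x = x
    constructor <;> intro hx
    · conv_lhs => rw [← hx]
      rw [hcomp, mul_inv_cancel, map_one]; rfl
    · conv_lhs => rw [← hx]
      rw [hcomp, inv_mul_cancel, map_one]; rfl
  refine ⟨ρ.character, Cfsg.Agent.Lib.Characters.Basic.isCharacter_character ρ, fun h c hc => ?_⟩
  -- the form stays nondegenerate on the fixed points
  have hfix : ∀ x ∈ fix a h, (∀ y ∈ fix a h, q x y = 0) → x = 0 := by
    intro x hx h0
    refine hnd x fun y => ?_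
    let n := Nat.card H
    have hpow : ∀ i : ℕ, a (h ^ i) x = x := by
      intro i
      induction i with
      | zero => simp
      | succ i ih => rw [pow_succ, ← hcomp, show a h x = x from hx, ih]
    let S := ∑ i ∈ Finset.range n, a (h ^ i) y
    have hS : S ∈ fix a h := by
      change a h S = S
      simp only [S, map_sum, hcomp, ← pow_succ']
      have e := Finset.sum_range_succ' (fun i => a (h ^ i) y) n
      rw [Finset.sum_range_succ, pow_card_eq_one', pow_zero] at e
      exact add_right_cancel e.symm
    have e1 : q x S = (n : ZMod p) * q x y := by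
      simp only [S, map_sum]
      rw [Finset.sum_congr rfl fun i _ => show q x (a (h ^ i) y) = q x y by
        conv_lhs => rw [← hpow i]
        rw [hinv]]
      simp
    rw [h0 S hS] at e1
    exact (mul_eq_zero.mp e1.symm).resolve_left (fun h0 => hcop ((ZMod.natCast_eq_zero_iff _ _).mp h0))
  rw [hchar]
  have h1 := gauss_mul_conj hsym hp2 (fix a h) hfix hc
  have h2 := gauss_sq_real (q := q) hUp (fix a h) c
  have hcard : Nat.card (fix a h) = Nat.card {u : U // a h u = u} := rfl
  rw [hcard] at h1
  refine ⟨h1, ?_⟩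
  rw [← h1]
  linear_combination (gauss q (fix a h) c ^ 2) * h2

end Cfsg.Agent.Lib.GaloisMean.Gauss
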