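import Mathlib
import Cfsg.Agent.Lib.GaloisMean.CoprimeSylow
import Cfsg.Agent.Lib.GaloisMean.Weil
import Cfsg.Agent.Lib.Blocks.LocalRing
import Cfsg.Agent.Lib.Clifford.Ito

/-!
# Robinson's argument for the class number of a coprime semidirect product

Given an abelian normal Sylow `p`-subgroup `V` of exponent `p`, a complement `G`, a vector `v`
and a character `F` of `C_G(v) × ZMod p` whose values at `(h, c)`, `c ≠ 0`, have squared
absolute value `n h` and fourth power `n h ^ 2` times a root of unity, the class number is at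
most `|V|` as soon as `n` is dominated by fixed point numbers on `V`.
-/

namespace Cfsg.Agent.Lib.GaloisMean.RealVector

open scoped ComplexConjugate
open Cfsg.Agent.Lib.Characters.Basic Cfsg.Agent.Lib.BC78.Galois

universe u

/-- Averages of character values over `H` at a fixed second coordinate are algebraic integers. -/
theorem isIntegral_slice {H : Type u} {D : Type*} [Group H] [Fintype H] [CommGroup D] [Finite D]
    {Φ : H × D → ℂ} (hΦ : Cfsg.IsCharacter (H × D) Φ) (d : D) :
    IsIntegral ℤ ((Nat.card H : ℂ)⁻¹ * ∑ h : H, Φ (h, d)) := by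
  classical
  have := Fintype.ofFinite D
  let N : Subgroup (H × D) := (MonoidHom.snd H D).ker
  have hN : N.Normal := MonoidHom.normal_ker _
  let eN : H ≃ N :=
    { toFun := fun h => ⟨(h, 1), rfl⟩
      invFun := fun n => n.1.1
      left_inv := fun h => rfl
      right_inv := fun n => Subtype.ext (Prod.ext rfl n.2.symm) }
  have h := isIntegral_apply (Cfsg.Agent.Lib.GaloisMean.CosetAvg.isCharacter_avg N hΦ) ((1 : H), d)
  simp only [← Nat.card_congr eN] at h
  rw [← Equiv.sum_comp eN] at h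
  simpa [eN] using h

/-- Interpolation: the product of a finite set of integers is a multiple of each member by
the values of one integral polynomial. -/
theorem exists_poly_mul_eq_prod (s : Finset ℤ) :
    ∃ P : Polynomial ℤ, ∀ c ∈ s, P.eval c * c = ∏ x ∈ s, x := by
  classical
  induction s using Finset.induction_on with
  | empty => exact ⟨0, fun c hc => by simp at hc⟩
  | @insert a s ha ih =>
    obtain ⟨P, hP⟩ := ih
    -- vanish at `s` modulo the variable
    refine ⟨Polynomial.C a * P + Polynomial.C (∏ x ∈ s, x) - Polynomial.X * P, fun c hc => ?_⟩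
    rw [Finset.prod_insert ha]
    simp only [Polynomial.eval_sub, Polynomial.eval_add, Polynomial.eval_mul, Polynomial.eval_C,
      Polynomial.eval_X]
    rcases Finset.mem_insert.mp hc with rfl | hc
    · ring
    · linear_combination (a - c) * hP c hc

variable {X : Type u} [Group X] [Finite X] (p : ℕ) [Fact p.Prime]

/-- The core estimate. -/
theorem card_conjClasses_le (V : Subgroup X) [V.Normal] (hVexp : ∀ v ∈ V, v ^ p = 1)
    (hidx : ¬ p ∣ V.index) (hab : ∀ a ∈ V, ∀ b ∈ V, a * b = b * a) (G : Subgroup X)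
    (hGV : Subgroup.IsComplement' V G) {v : X} (hv : v ∈ V)
    (H : Subgroup X) (hHG : H ≤ G) (hHv : ∀ h ∈ H, Commute v h)
    (hHmax : ∀ g ∈ G, Commute v g → g ∈ H)
    (F : ↥H × Multiplicative (ZMod p) → ℂ)
    (hF : Cfsg.IsCharacter _ F) (N : ℕ) (n : ↥H → ℕ)
    (hn : Cfsg.IsCharacter _ (fun h => (n h : ℂ))) (hn1 : n 1 = N) (hnN : ∀ h, n h ∣ N)
    (hnlt : ∀ h, h ≠ 1 → p * n h ∣ N) (hNp : ∃ k, N = p ^ k)
    (habs : ∀ h (c : ZMod p), c ≠ 0 →
      F (h, Multiplicative.ofAdd c) * conj (F (h, Multiplicative.ofAdd c)) = (n h : ℂ))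
    (hfour : ∀ h (c : ZMod p), c ≠ 0 →
      IsIntegral ℤ (F (h, Multiplicative.ofAdd c) ^ 4 / (n h : ℂ) ^ 2))
    (hdom : ∀ h : ↥H,
      N * Nat.card {u : V // (h : X) * u * (h : X)⁻¹ = u} ≤ Nat.card V * n h) :
    Nat.card (ConjClasses X) ≤ Nat.card V := by
  classical
  have := Fintype.ofFinite X
  have := Fintype.ofFinite (Cfsg.IrrCharacter X)
  have := Fintype.ofFinite H
  have := Fintype.ofFinite (Cfsg.IrrCharacter H)
  have hp : p.Prime := Fact.out
  obtain ⟨k, rfl⟩ := hNp
  set N := p ^ k with hN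
  have hNpos : 0 < N := pow_pos hp.pos k
  have hnpos : ∀ h, 0 < n h := fun h => Nat.pos_of_dvd_of_pos (hnN h) hNpos
  have hHdvd : Nat.card H ∣ V.index := by
    rw [hGV.symm.index_eq_card]
    exact Subgroup.card_dvd_of_le hHG
  have hpH : ¬ p ∣ Nat.card H := fun h => hidx (h.trans hHdvd)
  have hvp : v ^ p = 1 := hVexp v hv
  have hvH : ∀ h : H, Commute v (h : X) := fun h => hHv _ h.2
  -- powers of `v`
  let vp : ZMod p → X := fun c => v ^ c.val
  have hvadd : ∀ c d, vp (c + d) = vp c * vp d := fun c d => by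
    simp only [vp, ← pow_add]
    rw [pow_eq_pow_iff_modEq]
    refine Nat.ModEq.of_dvd (orderOf_dvd_of_pow_eq_one hvp) ?_
    rw [ZMod.val_add]
    exact Nat.mod_modEq _ _
  let m : ↥H × Multiplicative (ZMod p) →* X :=
    { toFun := fun x => vp x.2.toAdd * (x.1 : X)
      map_one' := by simp [vp]
      map_mul' := fun a b => by
        simp only [Prod.fst_mul, Prod.snd_mul, toAdd_mul, hvadd, Subgroup.coe_mul]
        have hc : Commute (vp b.2.toAdd) (a.1 : X) := (hvH a.1).pow_left _
        rw [mul_assoc (vp a.2.toAdd), mul_assoc (vp a.2.toAdd) (a.1 : X),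
          ← mul_assoc (vp b.2.toAdd), hc.eq, mul_assoc (a.1 : X)] }
  -- the coefficients
  let s : ℝ := Real.sqrt N
  let Bc : (ZMod p)ˣ × Cfsg.IrrCharacter X × Cfsg.IrrCharacter H → ↥H → ℂ := fun t h =>
    (t.2.1 : X → ℂ) (vp (t.1 : ZMod p) * (h : X)) *
      conj (F (h, Multiplicative.ofAdd (t.1 : ZMod p))) * ((n h : ℂ))⁻¹
  let B : (ZMod p)ˣ × Cfsg.IrrCharacter X × Cfsg.IrrCharacter H → ℂ := fun t =>
    (Nat.card H : ℂ)⁻¹ * ∑ h : H, Bc t h * conj ((t.2.2 : H → ℂ) h)
  let a : (ZMod p)ˣ × Cfsg.IrrCharacter X × Cfsg.IrrCharacter H → ℂ := fun t => (s : ℂ) * B t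
  let x : (ZMod p)ˣ × Cfsg.IrrCharacter X × Cfsg.IrrCharacter H → ℝ := fun t => Complex.normSq (a t)
  have hs2 : (s : ℂ) * (s : ℂ) = (N : ℂ) := by
    rw [← Complex.ofReal_mul, Real.mul_self_sqrt (Nat.cast_nonneg N)]
    norm_num
  -- integrality of the single terms
  let ψ : (ZMod p)ˣ → ↥H → ℂ := fun c h =>
    (s : ℂ) * conj (F (h, Multiplicative.ofAdd (c : ZMod p))) * ((n h : ℂ))⁻¹
  let w : (ZMod p)ˣ → ↥H → ℂ := fun c h =>
    conj (F (h, Multiplicative.ofAdd (c : ZMod p)) ^ 4 / (n h : ℂ) ^ 2)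
  have hψ4 : ∀ c h, ψ c h ^ 4 = (((N / n h : ℕ) : ℂ)) ^ 2 * w c h := by
    intro c h
    simp only [ψ, w, map_div₀, map_pow, map_natCast]
    have hne : (n h : ℂ) ≠ 0 := Nat.cast_ne_zero.mpr (hnpos h).ne'
    rw [Nat.cast_div (hnN h) hne, mul_pow, mul_pow,
      show ((s : ℂ)) ^ 4 = ((s : ℂ) * (s : ℂ)) * ((s : ℂ) * (s : ℂ)) by ring, hs2]
    field_simp
  have hw : ∀ c h, IsIntegral ℤ (w c h) := fun c h =>
    (hfour h c c.ne_zero).map (Complex.conjAe.toAlgHom.restrictScalars ℤ)
  have hnat : ∀ k : ℕ, IsIntegral ℤ (k : ℂ) := fun k => by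
    simpa using (isIntegral_algebraMap (R := ℤ) (A := ℂ) (x := (k : ℤ)))
  have hψint : ∀ c h, IsIntegral ℤ (ψ c h) := fun c h => by
    refine IsIntegral.of_pow (by norm_num : 0 < 4) ?_
    rw [hψ4]
    exact ((hnat _).pow 2).mul (hw c h)
  have hterm : ∀ (t : (ZMod p)ˣ × Cfsg.IrrCharacter X × Cfsg.IrrCharacter H) (h : H), IsIntegral ℤ ((t.2.1 : X → ℂ) (vp (t.1 : ZMod p) * (h : X)) * ψ t.1 h *
      conj ((t.2.2 : H → ℂ) h)) := fun t h =>
    ((isIntegral_apply (isCharacter_irr t.2.1) _).mul (hψint t.1 h)).mul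
      ((isIntegral_apply (isCharacter_irr t.2.2) _).map (Complex.conjAe.toAlgHom.restrictScalars ℤ))
  have haH : ∀ t, (Nat.card H : ℂ) * a t = ∑ h : H,
      (t.2.1 : X → ℂ) (vp (t.1 : ZMod p) * (h : X)) * ψ t.1 h * conj ((t.2.2 : H → ℂ) h) := by
    intro t
    have : (Nat.card H : ℂ) ≠ 0 := Nat.cast_ne_zero.mpr Nat.card_pos.ne'
    simp only [a, B, Bc, ψ, Finset.mul_sum]
    refine Finset.sum_congr rfl fun h _ => ?_
    field_simp
  -- integrality away from `|H|`
  obtain ⟨P, hP⟩ := exists_poly_mul_eq_prod (Finset.univ.image fun h : H => (n h : ℤ))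
  set M : ℤ := ∏ x ∈ Finset.univ.image (fun h : H => (n h : ℤ)), x with hM
  have hMa : ∀ t, IsIntegral ℤ ((M : ℂ) * a t) := by
    intro t
    let Φ : ℕ → ↥H × Multiplicative (ZMod p) → ℂ := fun i y =>
      (t.2.1 : X → ℂ) (m y) * conj (F y) * conj ((t.2.2 : H → ℂ) y.1) * (n y.1 : ℂ) ^ i
    have hΦ : ∀ i, Cfsg.IsCharacter _ (Φ i) := by
      intro i
      induction i with
      | zero =>
        have := isCharacter_mul (isCharacter_mul (isCharacter_comp m (isCharacter_irr t.2.1))
          (isCharacter_conj hF))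
          (isCharacter_comp (MonoidHom.fst H (Multiplicative (ZMod p)))
            (isCharacter_conj (isCharacter_irr t.2.2)))
        convert this using 1
        funext y
        simp [Φ]
      | succ i ih =>
        have := isCharacter_mul ih (isCharacter_comp (MonoidHom.fst H (Multiplicative (ZMod p))) hn)
        convert this using 1
        funext y
        simp [Φ, pow_succ, mul_assoc]
    have hs : IsIntegral ℤ (s : ℂ) := by
      refine IsIntegral.of_pow (by norm_num : 0 < 2) ?_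
      rw [pow_two, hs2]
      simpa using (isIntegral_algebraMap (R := ℤ) (A := ℂ) (x := (N : ℤ)))
    have e : (M : ℂ) * a t = (s : ℂ) * ∑ i ∈ Finset.range (P.natDegree + 1),
        (P.coeff i : ℂ) *
          ((Nat.card H : ℂ)⁻¹ * ∑ h : H, Φ i (h, Multiplicative.ofAdd (t.1 : ZMod p))) := by
      simp only [a, B, Bc]
      rw [mul_left_comm]
      congr 1
      simp only [Finset.mul_sum]
      rw [Finset.sum_comm]
      refine Finset.sum_congr rfl fun h _ => ?_
      have hne : (n h : ℂ) ≠ 0 := Nat.cast_ne_zero.mpr (hnpos h).ne'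
      have he : (M : ℂ) * ((n h : ℂ))⁻¹ =
          ∑ i ∈ Finset.range (P.natDegree + 1), (P.coeff i : ℂ) * (n h : ℂ) ^ i := by
        rw [← hP (n h : ℤ) (Finset.mem_image.mpr ⟨h, Finset.mem_univ _, rfl⟩),
          Polynomial.eval_eq_sum_range]
        push_cast
        field_simp
      simp only [Φ, m, MonoidHom.coe_mk, OneHom.coe_mk, toAdd_ofAdd]
      calc _ = (Nat.card H : ℂ)⁻¹ * ((t.2.1 : X → ℂ) (vp (t.1 : ZMod p) * (h : X)) *
            conj (F (h, Multiplicative.ofAdd (t.1 : ZMod p))) * conj ((t.2.2 : H → ℂ) h)) *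
            ((M : ℂ) * ((n h : ℂ))⁻¹) := by ring
        _ = _ := by
          rw [he, Finset.mul_sum]
          exact Finset.sum_congr rfl fun i _ => by ring
    rw [e]
    refine hs.mul (IsIntegral.sum _ fun i _ => ?_)
    exact (by simpa using (isIntegral_algebraMap (R := ℤ) (A := ℂ) (x := P.coeff i)) :
      IsIntegral ℤ (P.coeff i : ℂ)).mul (isIntegral_slice (hΦ i) _)
  have hcopM : IsCoprime M (Nat.card H : ℤ) := by
    refine IsCoprime.prod_left fun c hc => ?_
    obtain ⟨h, -, rfl⟩ := Finset.mem_image.mp hc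
    rw [Int.isCoprime_iff_nat_coprime, Int.natAbs_natCast, Int.natAbs_natCast]
    exact Nat.Coprime.coprime_dvd_left (hnN h)
      (Nat.Coprime.pow_left k ((Nat.Prime.coprime_iff_not_dvd hp).mpr hpH))
  have ha : ∀ t, IsIntegral ℤ (a t) := by
    intro t
    obtain ⟨u₁, u₂, hu⟩ := hcopM
    have e : a t = (u₁ : ℂ) * ((M : ℂ) * a t) + (u₂ : ℂ) * ((Nat.card H : ℂ) * a t) := by
      have : ((u₁ : ℂ) * M + (u₂ : ℂ) * (Nat.card H : ℂ)) = 1 := by exact_mod_cast hu
      linear_combination (-a t) * this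
    rw [e]
    refine ((by simpa using (isIntegral_algebraMap (R := ℤ) (A := ℂ) (x := u₁)) :
      IsIntegral ℤ (u₁ : ℂ)).mul (hMa t)).add ((by simpa using (isIntegral_algebraMap (R := ℤ) (A := ℂ) (x := u₂)) :
      IsIntegral ℤ (u₂ : ℂ)).mul ?_)
    rw [haH]
    exact IsIntegral.sum _ fun h _ => hterm t h
  -- nonvanishing
  obtain ⟨Mx, hMx⟩ := Cfsg.Agent.Lib.Blocks.exists_isPModular p hp
  haveI : Mx.IsMaximal := hMx.2.1
  have hprime : Mx.IsPrime := Ideal.IsMaximal.isPrime inferInstance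
  have hne : ∀ t, a t ≠ 0 := by
    intro t h0
    let al : ∀ {z : ℂ}, IsIntegral ℤ z → Cfsg.AlgInt := fun {z} hz => ⟨z, hz⟩
    let T : ↥H → Cfsg.AlgInt := fun h => al (hterm t h)
    have hsum : ∑ h, T h = 0 := by
      apply Subtype.ext
      push_cast
      rw [← haH, h0, mul_zero]
    have hpM : (p : Cfsg.AlgInt) ∈ Mx :=
      (Cfsg.Agent.Lib.Blocks.natCast_mem_ideal_iff hMx p).mpr dvd_rfl
    have hTM : ∀ h, h ≠ 1 → T h ∈ Mx := by
      intro h hh
      have h1 : al (hψint t.1 h) ∈ Mx := by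
        refine hprime.mem_of_pow_mem 4 ?_
        obtain ⟨j, hj⟩ := Nat.dvd_div_of_mul_dvd (by rw [mul_comm]; exact hnlt h hh : n h * p ∣ N)
        have e : al (hψint t.1 h) ^ 4 = (p : Cfsg.AlgInt) * ((p : Cfsg.AlgInt) * (j : Cfsg.AlgInt) ^ 2 *
            al (hw t.1 h)) := by
          apply Subtype.ext
          push_cast
          change ψ t.1 h ^ 4 = (p : ℂ) * ((p : ℂ) * (j : ℂ) ^ 2 * w t.1 h)
          rw [hψ4, hj]
          push_cast
          ring
        rw [e]
        exact Mx.mul_mem_right _ hpM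
      have e : T h = al ((isIntegral_apply (isCharacter_irr t.2.1) (vp (t.1 : ZMod p) * (h : X)))) *
          al (hψint t.1 h) * al ((isIntegral_apply (isCharacter_irr t.2.2) h).map
            (Complex.conjAe.toAlgHom.restrictScalars ℤ)) := Subtype.ext rfl
      rw [e]
      exact Mx.mul_mem_right _ (Mx.mul_mem_left _ h1)
    have hT1 : T 1 ∈ Mx := by
      have := Finset.add_sum_erase Finset.univ T (Finset.mem_univ 1)
      rw [hsum] at this
      rw [eq_neg_of_add_eq_zero_left this]
      exact Mx.neg_mem (Ideal.sum_mem _ fun h hh => hTM h (Finset.ne_of_mem_erase hh))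
    -- the three factors of `T 1` are units
    let z1 : Cfsg.AlgInt := al (isIntegral_apply (isCharacter_irr t.2.1) (vp (t.1 : ZMod p) * ((1 : H) : X)))
    let z2 : Cfsg.AlgInt := al (hψint t.1 1)
    let z3 : Cfsg.AlgInt := al ((isIntegral_apply (isCharacter_irr t.2.2) (1 : H)).map
      (Complex.conjAe.toAlgHom.restrictScalars ℤ))
    have e1 : T 1 = z1 * z2 * z3 := Subtype.ext rfl
    rw [e1] at hT1
    have hd3 : z3 ∉ Mx := by
      obtain ⟨d, -, hdd, hd⟩ := Cfsg.Agent.Lib.Characters.Degree.exists_degree_dvd t.2.2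
      have : z3 = (d : Cfsg.AlgInt) := by
        apply Subtype.ext
        push_cast
        change conj ((t.2.2 : H → ℂ) 1) = (d : ℂ)
        rw [hd, map_natCast]
      rw [this, Cfsg.Agent.Lib.Blocks.natCast_mem_ideal_iff hMx]
      exact fun h => hpH (h.trans hdd)
    have hd2 : z2 ∉ Mx := by
      intro hz
      have hc2 : IsIntegral ℤ (conj (ψ t.1 1)) :=
        (hψint t.1 1).map (Complex.conjAe.toAlgHom.restrictScalars ℤ)
      have : z2 * al hc2 = 1 := by
        apply Subtype.ext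
        push_cast
        change ψ t.1 1 * conj (ψ t.1 1) = 1
        have hne1 : (N : ℂ) ≠ 0 := Nat.cast_ne_zero.mpr hNpos.ne'
        simp only [ψ, map_mul, map_inv₀, map_natCast, Complex.conj_ofReal, Complex.conj_conj, hn1]
        have e := habs 1 _ t.1.ne_zero
        rw [hn1] at e
        field_simp
        linear_combination (N : ℂ) * e + (F ((1 : ↥H), Multiplicative.ofAdd (t.1 : ZMod p)) *
          conj (F ((1 : ↥H), Multiplicative.ofAdd (t.1 : ZMod p)))) * hs2
      exact Cfsg.Agent.Lib.Blocks.one_notMem_ideal (this ▸ Mx.mul_mem_right _ hz)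
    have hd1 : z1 ∉ Mx := by
      intro hz
      obtain ⟨d, -, hdd, hd⟩ := Cfsg.Agent.Lib.Characters.Degree.exists_degree_dvd t.2.1
      obtain ⟨nn, ρ, hρirr, hρ⟩ := t.2.1.2
      obtain ⟨ι, hι, b, ζ, hb, -, hchar⟩ :=
        Cfsg.Agent.Lib.Characters.Diag.exists_eigenbasis (ρ := ρ) (vp (t.1 : ZMod p)) hp.ne_zero
          (by rw [← pow_mul, mul_comm, pow_mul, hvp, one_pow])
      have hint : ∀ i, IsIntegral ℤ (ζ i) := fun i =>
        IsIntegral.of_pow hp.pos (by rw [(hb i).2]; exact isIntegral_one)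
      have hz1 : z1 = ∑ i, al (hint i) := by
        apply Subtype.ext
        push_cast
        change (t.2.1 : X → ℂ) (vp (t.1 : ZMod p) * ((1 : H) : X)) = ∑ i, ζ i
        rw [Subgroup.coe_one, mul_one, ← hρ]
        exact hchar
      have hq : Ideal.Quotient.mk Mx z1 = (Fintype.card ι : Cfsg.AlgInt ⧸ Mx) := by
        rw [hz1, map_sum, Finset.sum_congr rfl fun i _ =>
          Cfsg.Agent.Lib.Blocks.mk_eq_one_of_pow_prime_pow hMx (k := 1) (ε := al (hint i))
            (by rw [pow_one]; exact (hb i).2)]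
        simp
      rw [Ideal.Quotient.eq_zero_iff_mem.mpr hz, ← map_natCast (Ideal.Quotient.mk Mx), eq_comm,
        Ideal.Quotient.eq_zero_iff_mem, Cfsg.Agent.Lib.Blocks.natCast_mem_ideal_iff hMx] at hq
      apply hidx
      refine hq.trans ?_
      obtain ⟨e, he, hedvd⟩ := Cfsg.Agent.Lib.Clifford.Ito.degree_dvd_index V hab t.2.1
      have hcard : Fintype.card ι = e := by
        have h1 := Module.finrank_eq_card_basis b
        have h2 : (t.2.1 : X → ℂ) 1 = (Module.finrank ℂ (Fin nn → ℂ) : ℂ) := by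
          rw [← hρ]; exact ρ.char_one
        rw [he] at h2
        rw [← h1]
        exact_mod_cast h2.symm
      rw [hcard]
      exact hedvd
    rcases hprime.mem_or_mem hT1 with h | h
    · rcases hprime.mem_or_mem h with h | h
      · exact hd1 h
      · exact hd2 h
    · exact hd3 h
  -- Galois
  have hxint : ∀ t, IsIntegral ℤ ((x t : ℝ) : ℂ) := fun t => by
    simp only [x]
    rw [← Complex.mul_conj]
    exact (ha t).mul ((ha t).map (Complex.conjAe.toAlgHom.restrictScalars ℤ))
  have hxB : ∀ t, ((x t : ℝ) : ℂ) = (N : ℂ) * (B t * conj (B t)) := fun t => by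
    simp only [x, a]
    rw [← Complex.mul_conj, map_mul, Complex.conj_ofReal]
    linear_combination (B t * conj (B t)) * hs2
  have hmain := Cfsg.Agent.Lib.GaloisMean.Basic.card_le_sum x hxint
    (fun t => Complex.normSq_pos.mpr (hne t)) (by
    intro σ
    obtain ⟨e, he, hσe⟩ := exists_exponent (σ := σ) (n := Nat.card X * Nat.card (↥H × Multiplicative (ZMod p)))
      (Nat.mul_ne_zero Nat.card_pos.ne' Nat.card_pos.ne')
    obtain ⟨kX, hkX, hσX⟩ := exists_exponent_char (G := ↥H × Multiplicative (ZMod p)) σ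
    clear he hσe
    have hkp : kX.Coprime p := by
      refine hkX.coprime_dvd_right ?_
      rw [Nat.card_prod]
      exact Dvd.dvd.mul_left (by simp) _
    have hkH : kX.Coprime (Nat.card H) :=
      hkX.coprime_dvd_right (by rw [Nat.card_prod]; exact dvd_mul_right _ _)
    refine ⟨(Equiv.mulRight (ZMod.unitOfCoprime kX hkp)).prodCongr (Equiv.refl _), fun t => ?_⟩
    set t' : (ZMod p)ˣ × Cfsg.IrrCharacter X × Cfsg.IrrCharacter H :=
      (t.1 * ZMod.unitOfCoprime kX hkp, t.2) with ht'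
    change ((σ ⟨((x t : ℝ) : ℂ), _⟩ : Alg) : ℂ) = ((x t' : ℝ) : ℂ)
    -- the values of the characters of `H × ZMod p`
    let Φ : ↥H × Multiplicative (ZMod p) → ℂ := fun y =>
      (t.2.1 : X → ℂ) (m y) * conj (F y) * conj ((t.2.2 : H → ℂ) y.1)
    have hΦ : Cfsg.IsCharacter _ Φ := by
      have := isCharacter_mul (isCharacter_mul (isCharacter_comp m (isCharacter_irr t.2.1))
        (isCharacter_conj hF))
        (isCharacter_comp (MonoidHom.fst H (Multiplicative (ZMod p)))
          (isCharacter_conj (isCharacter_irr t.2.2)))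
      convert this using 1
      funext y
      simp [Φ]
    have hΦint : ∀ y, IsIntegral ℤ (Φ y) := fun y => isIntegral_apply hΦ y
    have hΦc : ∀ y, IsIntegral ℤ (conj (Φ y)) := fun y =>
      (hΦint y).map (Complex.conjAe.toAlgHom.restrictScalars ℤ)
    let yc : (ZMod p)ˣ → ↥H → ↥H × Multiplicative (ZMod p) := fun c h =>
      (h, Multiplicative.ofAdd (c : ZMod p))
    have hB : ∀ c, B (c, t.2) = (Nat.card H : ℂ)⁻¹ * ∑ h, Φ (yc c h) * ((n h : ℂ))⁻¹ := fun c => by
      simp only [B, Bc, Φ, yc, m, MonoidHom.coe_mk, OneHom.coe_mk, toAdd_ofAdd]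
      congr 1
      exact Finset.sum_congr rfl fun h _ => by ring
    have hBc' : ∀ c, conj (B (c, t.2)) =
        (Nat.card H : ℂ)⁻¹ * ∑ h, conj (Φ (yc c h)) * ((n h : ℂ))⁻¹ := fun c => by
      rw [hB]; simp [map_sum]
    have hdecomp : (⟨((x t : ℝ) : ℂ), mem_alg_of_isIntegral (hxint t)⟩ : Alg) =
        (N : Alg) * (((Nat.card H : Alg)⁻¹ * ∑ h, (⟨Φ (yc t.1 h), mem_alg_of_isIntegral (hΦint _)⟩ : Alg) *
            ((n h : Alg))⁻¹) *
          ((Nat.card H : Alg)⁻¹ * ∑ h, (⟨conj (Φ (yc t.1 h)), mem_alg_of_isIntegral (hΦc _)⟩ : Alg) *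
            ((n h : Alg))⁻¹)) := by
      apply Subtype.ext
      push_cast
      rw [hxB, show t = (t.1, t.2) from rfl, hBc', hB]
    rw [hdecomp]
    simp only [map_mul, map_sum, map_inv₀, map_natCast]
    push_cast
    rw [hxB, show t' = (t'.1, t'.2) from rfl]
    simp only [ht']
    rw [hBc', hB]
    have hbij : Function.Bijective fun h : H => h ^ kX := (powCoprime hkH.symm).bijective
    have hyk : ∀ h, yc t.1 h ^ kX = yc (t.1 * ZMod.unitOfCoprime kX hkp) (h ^ kX) := fun h => by
      refine Prod.ext rfl ?_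
      simp [yc, ← ofAdd_nsmul, mul_comm]
    have hnk : ∀ h : H, n (h ^ kX) = n h := fun h => by
      have hm : ((n h : ℂ)) ∈ Alg := natCast_mem Alg (n h)
      obtain ⟨k', hk', hσ'⟩ := exists_exponent_char (G := ↥H × Multiplicative (ZMod p)) σ
      have h1 := hσX _ (isCharacter_comp (MonoidHom.fst H (Multiplicative (ZMod p))) hn) (h, 1) hm
      simp only [Function.comp_apply, MonoidHom.coe_fst, Prod.pow_fst] at h1
      have h2 : (⟨((n h : ℕ) : ℂ), hm⟩ : Alg) = ((n h : ℕ) : Alg) := Subtype.ext (by simp)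
      rw [h2, map_natCast] at h1
      push_cast at h1
      exact_mod_cast h1.symm
    congr 2
    · congr 1
      refine (Fintype.sum_bijective _ hbij _ _ fun h => ?_)
      rw [hσX Φ hΦ, hyk, hnk]
    · congr 1
      refine (Fintype.sum_bijective _ hbij _ _ fun h => ?_)
      have := hσX _ (isCharacter_conj hΦ) (yc t.1 h) (mem_alg_of_isIntegral (hΦc _))
      rw [this, hyk, hnk])
  -- Parseval
  have hpars : ∀ u : ↥H → ℂ, (∀ g h : H, u (g * h * g⁻¹) = u h) →
      ∑ φ : Cfsg.IrrCharacter H, ((Nat.card H : ℂ)⁻¹ * ∑ h, u h * conj ((φ : H → ℂ) h)) *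
          conj ((Nat.card H : ℂ)⁻¹ * ∑ h, u h * conj ((φ : H → ℂ) h)) =
        (Nat.card H : ℂ)⁻¹ * ∑ h, u h * conj (u h) := by
    intro u hu
    have hN0 : (Nat.card H : ℂ) ≠ 0 := Nat.cast_ne_zero.mpr Nat.card_pos.ne'
    have e1 : ∀ φ : Cfsg.IrrCharacter H, ((Nat.card H : ℂ)⁻¹ * ∑ h, u h * conj ((φ : H → ℂ) h)) *
        conj ((Nat.card H : ℂ)⁻¹ * ∑ h, u h * conj ((φ : H → ℂ) h)) =
        (Nat.card H : ℂ)⁻¹ * (Nat.card H : ℂ)⁻¹ *
          ∑ h, ∑ g, u h * conj (u g) * ((φ : H → ℂ) g * conj ((φ : H → ℂ) h)) := by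
      intro φ
      simp only [map_mul, map_inv₀, map_natCast, map_sum, Complex.conj_conj]
      rw [mul_mul_mul_comm, Finset.sum_mul_sum]
      congr 1
      refine Finset.sum_congr rfl fun h _ => Finset.sum_congr rfl fun g _ => ?_
      ring
    rw [Finset.sum_congr rfl fun φ _ => e1 φ, ← Finset.mul_sum, Finset.sum_comm, mul_assoc]
    congr 1
    rw [Finset.mul_sum]
    refine Finset.sum_congr rfl fun h _ => ?_
    rw [Finset.sum_comm]
    simp only [← Finset.mul_sum, Cfsg.Agent.Lib.Characters.Complete.sum_irr_mul_conj, mul_ite, mul_zero]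
    rw [← Finset.sum_filter]
    have e2 : ∀ g ∈ Finset.univ.filter (fun g : H => IsConj g h),
        u h * conj (u g) * (Nat.card (Subgroup.centralizer ({g} : Set H)) : ℂ) =
          u h * conj (u h) * (Nat.card (Subgroup.centralizer ({h} : Set H)) : ℂ) := by
      intro g hg
      obtain ⟨c, hc⟩ := isConj_iff.mp (Finset.mem_filter.mp hg).2
      have h1 := Cfsg.Agent.Lib.Characters.Complete.card_conjugates_mul_centralizer g
      have h2 := Cfsg.Agent.Lib.Characters.Complete.card_conjugates_mul_centralizer h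
      have h3 : Nat.card {z : H // IsConj g z} = Nat.card {z : H // IsConj h z} :=
        Nat.card_congr (Equiv.subtypeEquivRight fun z =>
          ⟨fun hz => (Finset.mem_filter.mp hg).2.symm.trans hz, fun hz => (Finset.mem_filter.mp hg).2.trans hz⟩)
      have h4 : Nat.card (Subgroup.centralizer ({g} : Set H)) =
          Nat.card (Subgroup.centralizer ({h} : Set H)) := by
        rw [h3] at h1
        haveI : Nonempty {z : H // IsConj h z} := ⟨⟨h, IsConj.refl h⟩⟩
        exact Nat.eq_of_mul_eq_mul_left Nat.card_pos (h1.trans h2.symm)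
      rw [h4, show u h = u g by rw [← hc, hu]]
    rw [Finset.sum_congr rfl e2, Finset.sum_const, nsmul_eq_mul]
    have h5 : (Finset.univ.filter fun g : H => IsConj g h).card * Nat.card (Subgroup.centralizer ({h} : Set H))
        = Nat.card H := by
      rw [← Cfsg.Agent.Lib.Characters.Complete.card_conjugates_mul_centralizer h]
      congr 1
      rw [← Nat.card_eq_finsetCard]
      exact Nat.card_congr (Equiv.subtypeEquivRight fun g => ⟨fun e => (Finset.mem_filter.mp e).2.symm, fun e => Finset.mem_filter.mpr ⟨Finset.mem_univ _, e.symm⟩⟩)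
    rw [show ((Finset.univ.filter fun g : H => IsConj g h).card : ℂ) *
        (u h * conj (u h) * (Nat.card (Subgroup.centralizer ({h} : Set H)) : ℂ)) =
        (((Finset.univ.filter fun g : H => IsConj g h).card *
          Nat.card (Subgroup.centralizer ({h} : Set H)) : ℕ) : ℂ) * (u h * conj (u h)) by push_cast; ring,
      h5, ← mul_assoc, inv_mul_cancel₀ hN0, one_mul]
  -- class function
  have hcl : ∀ c χ (g h : H),
      Bc (c, χ, oneChar H) (g * h * g⁻¹) = Bc (c, χ, oneChar H) h := by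
    intro c χ g h
    simp only [Bc]
    have e1 : vp (c : ZMod p) * ((g * h * g⁻¹ : H) : X) = (g : X) * (vp (c : ZMod p) * (h : X)) * (g : X)⁻¹ := by
      have hg : Commute (vp (c : ZMod p)) (g : X) := (hvH g).pow_left _
      push_cast
      rw [← mul_assoc (g : X), ← hg.eq]
      group
    have e2 : F (g * h * g⁻¹, Multiplicative.ofAdd (c : ZMod p)) =
        F (h, Multiplicative.ofAdd (c : ZMod p)) := by
      refine classFunction_apply_of_isConj (isClassFunction_of_isCharacter hF) (IsConj.symm ?_)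
      exact isConj_iff.mpr ⟨(g, 1), by simp⟩
    have e3 : n (g * h * g⁻¹) = n h := by
      have := classFunction_apply_of_isConj (isClassFunction_of_isCharacter hn)
        (isConj_iff.mpr ⟨g, rfl⟩ : IsConj h (g * h * g⁻¹))
      exact_mod_cast this.symm
    rw [e1, e2, e3, classFunction_apply_of_isConj (isClassFunction_irr χ)
      (isConj_iff.mpr ⟨(g : X), rfl⟩ :
        IsConj (vp (c : ZMod p) * (h : X)) ((g : X) * (vp (c : ZMod p) * (h : X)) * (g : X)⁻¹))]
  -- centralizers
  have hCcard : ∀ (c : (ZMod p)ˣ) (h : H),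
      Nat.card (Subgroup.centralizer ({vp (c : ZMod p) * (h : X)} : Set X)) ≤
        Nat.card {u : V // (h : X) * u * (h : X)⁻¹ = u} * Nat.card (Subgroup.centralizer ({h} : Set H)) := by
    intro c h
    have key : ∀ z ∈ Subgroup.centralizer ({vp (c : ZMod p) * (h : X)} : Set X),
        ∃ (u : V) (b : H), (h : X) * u * (h : X)⁻¹ = u ∧ Commute h b ∧ z = (u : X) * b := by
      intro z hz
      have hzc : Commute (vp (c : ZMod p) * (h : X)) z :=
        Subgroup.mem_centralizer_iff.mp hz _ rfl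
      have hH : (h : X) ^ Nat.card H = 1 := by
        have := congrArg Subtype.val (pow_card_eq_one' (x := h))
        rwa [SubmonoidClass.coe_pow, Subgroup.coe_one] at this
      have hcv : Commute (vp (c : ZMod p)) (h : X) := (hvH h).pow_left _
      have hzv : Commute v z := by
        have e1 : (vp (c : ZMod p) * (h : X)) ^ Nat.card H = v ^ ((c : ZMod p).val * Nat.card H) := by
          rw [hcv.mul_pow, hH, mul_one, ← pow_mul]
        have e2 := hzc.pow_left (Nat.card H)
        rw [e1] at e2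
        have hcop : ((c : ZMod p).val * Nat.card H).Coprime (orderOf v) := by
          refine Nat.Coprime.coprime_dvd_right (orderOf_dvd_of_pow_eq_one hvp) ?_
          exact (ZMod.val_coe_unit_coprime c).mul_left ((Nat.Prime.coprime_iff_not_dvd hp).mpr hpH).symm
        obtain ⟨j, hj⟩ := exists_pow_eq_self_of_coprime hcop
        have e3 := e2.pow_left j
        rwa [hj] at e3
      have hzh : Commute (h : X) z := by
        have e : (h : X) = (vp (c : ZMod p))⁻¹ * (vp (c : ZMod p) * (h : X)) := by group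
        rw [e]
        exact (hzv.pow_left _).inv_left.mul_left hzc
      obtain ⟨⟨u, b⟩, rfl⟩ := hGV.2 z
      have hvu : Commute v (u : X) := hab v hv u u.2
      have hvb : Commute v (b : X) := by
        have := hvu.inv_right.mul_right hzv
        simpa using this
      have hbH : (b : X) ∈ H := hHmax _ b.2 hvb
      -- project to the complement
      have e4 : (h : X) * (u : X) * (h : X)⁻¹ * ((h : X) * (b : X) * (h : X)⁻¹) = (u : X) * b := by
        have := mul_inv_eq_iff_eq_mul.mpr hzh.eq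
        rw [show (h : X) * (u : X) * (h : X)⁻¹ * ((h : X) * (b : X) * (h : X)⁻¹) =
          (h : X) * ((u : X) * b) * (h : X)⁻¹ by group]
        exact this
      have e5 := hGV.1 (a₁ := (⟨(h : X) * (u : X) * (h : X)⁻¹, ‹V.Normal›.conj_mem u u.2 h⟩, ⟨(h : X) * (b : X) * (h : X)⁻¹,
          G.mul_mem (G.mul_mem (hHG h.2) b.2) (G.inv_mem (hHG h.2))⟩)) (a₂ := (u, b)) e4
      simp only [Prod.mk.injEq, Subtype.ext_iff] at e5
      exact ⟨u, ⟨b, hbH⟩, e5.1, Subtype.ext (mul_inv_eq_iff_eq_mul.mp e5.2), rfl⟩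
    choose fu fb hfu hfb hf using key
    rw [← Nat.card_prod]
    refine Nat.card_le_card_of_injective (fun z => (⟨fu z.1 z.2, hfu z.1 z.2⟩,
      ⟨fb z.1 z.2, by
        rw [Subgroup.mem_centralizer_iff]; rintro _ rfl; exact (hfb z.1 z.2).eq⟩)) ?_
    intro z z' hzz
    simp only [Prod.mk.injEq, Subtype.mk.injEq] at hzz
    apply Subtype.ext
    rw [hf z.1 z.2, hf z'.1 z'.2, hzz.1, hzz.2]
  -- the upper bound
  have hkH : (Nat.card (Cfsg.IrrCharacter H) : ℝ) * Nat.card H =
      ∑ h : H, (Nat.card (Subgroup.centralizer ({h} : Set H)) : ℝ) := by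
    have : ∀ h : H, (Nat.card (Subgroup.centralizer ({h} : Set H)) : ℂ) =
        ∑ φ : Cfsg.IrrCharacter H, (φ : H → ℂ) h * conj ((φ : H → ℂ) h) := fun h => by
      rw [Cfsg.Agent.Lib.Characters.Complete.sum_irr_mul_conj, if_pos (IsConj.refl h)]
    apply Complex.ofReal_injective
    push_cast
    rw [Finset.sum_congr rfl fun h _ => this h, Finset.sum_comm]
    have h1 : ∀ φ : Cfsg.IrrCharacter H, ∑ h : H, (φ : H → ℂ) h * conj ((φ : H → ℂ) h) = (Nat.card H : ℂ) := by
      intro φ
      have h2 := classInner_self_irr φ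
      simp only [Cfsg.classInner] at h2
      have hN0 : (Nat.card H : ℂ) ≠ 0 := Nat.cast_ne_zero.mpr Nat.card_pos.ne'
      rw [inv_mul_eq_one₀ hN0] at h2
      exact h2.symm
    rw [Finset.sum_congr rfl fun φ _ => h1 φ, Finset.sum_const, nsmul_eq_mul, Finset.card_univ,
      Nat.card_eq_fintype_card (α := Cfsg.IrrCharacter H)]
  have hup : ∀ c : (ZMod p)ˣ, ∑ χ : Cfsg.IrrCharacter X, ∑ φ : Cfsg.IrrCharacter H, x (c, χ, φ) ≤
      (Nat.card V : ℝ) * Nat.card (Cfsg.IrrCharacter H) := by
    intro c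
    have e1 : (∑ χ : Cfsg.IrrCharacter X, ∑ φ : Cfsg.IrrCharacter H, x (c, χ, φ) : ℝ) =
        (Nat.card H : ℝ)⁻¹ * ∑ h : H, (N : ℝ) *
          Nat.card (Subgroup.centralizer ({vp (c : ZMod p) * (h : X)} : Set X)) / n h := by
      apply Complex.ofReal_injective
      push_cast
      simp only [hxB, ← Finset.mul_sum]
      have e3 : ∀ χ, ∑ φ : Cfsg.IrrCharacter H, B (c, χ, φ) * conj (B (c, χ, φ)) =
          (Nat.card H : ℂ)⁻¹ * ∑ h, Bc (c, χ, oneChar H) h * conj (Bc (c, χ, oneChar H) h) :=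
        fun χ => hpars (Bc (c, χ, oneChar H)) (hcl c χ)
      rw [Finset.sum_congr rfl fun χ _ => e3 χ, ← Finset.mul_sum, ← mul_assoc,
        mul_comm (N : ℂ), mul_assoc, Finset.sum_comm, Finset.mul_sum]
      congr 1
      refine Finset.sum_congr rfl fun h _ => ?_
      have hne : (n h : ℂ) ≠ 0 := Nat.cast_ne_zero.mpr (hnpos h).ne'
      have e4 : ∀ χ, Bc (c, χ, oneChar H) h * conj (Bc (c, χ, oneChar H) h) =
          ((χ : X → ℂ) (vp (c : ZMod p) * (h : X)) * conj ((χ : X → ℂ) (vp (c : ZMod p) * (h : X)))) *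
            ((n h : ℂ))⁻¹ := by
        intro χ
        simp only [Bc, map_mul, map_inv₀, map_natCast, Complex.conj_conj]
        field_simp
        linear_combination ((χ : X → ℂ) (vp (c : ZMod p) * (h : X)) *
          conj ((χ : X → ℂ) (vp (c : ZMod p) * (h : X)))) * habs h _ c.ne_zero
      rw [Finset.sum_congr rfl fun χ _ => e4 χ, ← Finset.sum_mul,
        Cfsg.Agent.Lib.Characters.Complete.sum_irr_mul_conj, if_pos (IsConj.refl _)]
      field_simp
    rw [e1]
    have hHpos : (0 : ℝ) < Nat.card H := Nat.cast_pos.mpr Nat.card_pos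
    rw [inv_mul_le_iff₀ hHpos]
    calc ∑ h : H, (N : ℝ) * Nat.card (Subgroup.centralizer ({vp (c : ZMod p) * (h : X)} : Set X)) / n h
        ≤ ∑ h : H, (Nat.card V : ℝ) * Nat.card (Subgroup.centralizer ({h} : Set H)) := by
          refine Finset.sum_le_sum fun h _ => ?_
          rw [div_le_iff₀ (Nat.cast_pos.mpr (hnpos h))]
          have h1 := Nat.mul_le_mul_left N (hCcard c h)
          have h2 := Nat.mul_le_mul_right (Nat.card (Subgroup.centralizer ({h} : Set H))) (hdom h)
          have h3 : N * Nat.card (Subgroup.centralizer ({vp (c : ZMod p) * (h : X)} : Set X)) ≤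
              Nat.card V * Nat.card (Subgroup.centralizer ({h} : Set H)) * n h := by nlinarith [h1, h2]
          exact_mod_cast h3
      _ = (Nat.card H : ℝ) * ((Nat.card V : ℝ) * Nat.card (Cfsg.IrrCharacter H)) := by
          rw [← Finset.mul_sum, ← hkH]; ring
  -- conclusion
  rw [← Cfsg.Agent.Lib.Characters.Complete.card_irr_eq_card_conjClasses]
  rw [Fintype.card_prod, Fintype.card_prod, Fintype.sum_prod_type] at hmain
  simp only [Fintype.sum_prod_type] at hmain
  have h4 := hmain.trans (Finset.sum_le_sum fun c _ => hup c)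
  rw [Finset.sum_const, nsmul_eq_mul, Finset.card_univ, Nat.card_eq_fintype_card (α := Cfsg.IrrCharacter H)] at h4
  push_cast at h4
  have hc0 : (0 : ℝ) < Fintype.card (ZMod p)ˣ := Nat.cast_pos.mpr Fintype.card_pos
  have hI0 : (0 : ℝ) < Fintype.card (Cfsg.IrrCharacter H) :=
    Nat.cast_pos.mpr (Fintype.card_pos_iff.mpr ⟨oneChar H⟩)
  have h5 : (Fintype.card (Cfsg.IrrCharacter X) : ℝ) ≤ (Nat.card V : ℝ) := by
    refine le_of_mul_le_mul_right ?_ (mul_pos hc0 hI0)
    nlinarith [h4]
  rw [Nat.card_eq_fintype_card]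
  exact_mod_cast h5

end Cfsg.Agent.Lib.GaloisMean.RealVector
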